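import Cfsg.Agent.Mrg.Omega.NO3S.Pas.PasN
import Cfsg.Agent.Mrg.Omega.NO3S.GFF.S1.Four
import Cfsg.Agent.Mrg.Omega.NO3S.Pas.Inst
import Cfsg.Agent.Mrg.Omega.VP
import Mathlib
import Cfsg.Agent.Mrg.Omega.NSix.HTwo.Vec
import Cfsg.Agent.Mrg.Omega.Half.Basic
import Cfsg.Agent.Mrg.Omega.FF.GlobEnd
import Cfsg.Agent.Mrg.Omega.NO3S.Fld.LevEnd

-- merged: Cfsg.Agent.Mrg.Omega.NO3S.SOne.KeyLe.Main
section

/-!
# GammaFF, (S1): the KEY with radicals, end: no exception (NS)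

`Rad S`, `w : WSt S R F`, `P ∈ P**`, `V = X₀`, `E = EE V F`.

* `exists_front` : the front of the types `{P, R}`, the start chamber moved to `S`;
* **`false_of_two`** : `V_R / C` natural over a field with more than two elements ⟹ `|V : E| ≠ 2`;
* **`key_fnt`** : `Key V F B` over 894's front `Fnt S P P₁ V F n`.
-/

set_option autoImplicit false
set_option linter.unusedSectionVars false

namespace Cfsg.Agent.Omega.NO3S.SOne.KeyLe

open Subgroup Cfsg Cfsg.Agent.ZN Cfsg.Agent.Omega.MinPar Cfsg.Agent.Omega.Frame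
open Cfsg.Agent.Omega.FrameNOFF (CZ)
open Cfsg.Agent.Omega.NOne.Flat (EE NN conj_eq_of_norm conj_centralizer WW_conj EE_conj o2_conj)
open Cfsg.Agent.Omega.NOne.NearFF (c c_def)
open Cfsg.Agent.Omega.NoFF.Basic (conj_conj mem_conj conj_le_iff conj_le_centralizer comm_symm V_le Z_le_V Gal)
open Cfsg.Agent.Omega.NOThreeL.Low.Key (BH)
open Cfsg.Agent.Omega.FFThm Cfsg.Agent.Omega.NatPair Cfsg.Agent.Lib.SL2Mat
open Cfsg.Agent.Omega.NO3S.KeyRad
open Cfsg.Agent.Omega.FrameFF (cv)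
open Cfsg.Agent.Omega.NO3S.Pas (ChT GdT BBT FrT BLT bhT WFr Key)
open Cfsg.Agent.Omega.NO3S.Level (W0 WSt X0 M0 K0 M0_norm S_le_M0 par_le X0_comm X0_sq)
open Cfsg.Agent.Omega.NO3S.GFF.S1 (Rad)
open scoped Pointwise

universe u

variable {G : Type u} [Group G] [Finite G] {S : Sylow 2 G} {P R F : Subgroup G}

/-- the first step of a gallery -/
theorem gal_head {𝒯 : Set (Subgroup G)} {n : ℕ} {a b : G} (h : Gal 𝒯 (n + 1) a b) :
    ∃ Q ∈ 𝒯, ∃ q ∈ Q, Gal 𝒯 n (a * q) b := by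
  induction n generalizing b with
  | zero =>
    cases h with
    | @step _ _ g p Q hg hQ hp =>
      cases hg
      exact ⟨Q, hQ, p, hp, Gal.zero _⟩
  | succ n ih =>
    cases h with
    | @step _ _ g p Q hg hQ hp =>
      obtain ⟨Q', hQ', q, hq, h1⟩ := ih hg
      exact ⟨Q', hQ', q, hq, h1.step hQ hp⟩

/-- `|V : E|` is invariant -/
theorem relIndex_conj {V : Subgroup G} {y : G} (hy : y ∈ normalizer (V : Set G)) :
    (EE V (MulAut.conj y • F)).relIndex V = (EE V F).relIndex V := by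
  have e : EE V (MulAut.conj y • F) = MulAut.conj y • EE V F := (EE_conj hy).symm
  rw [e]
  conv_lhs => rw [← conj_eq_of_norm hy]
  rw [relIndex_pointwise_smul, conj_eq_of_norm hy]

/-- **The front** for the types `P`, `R`, from the chamber `S`. -/
theorem exists_front (h : Rad S) (w : WSt S R F) (hP : PSS (S : Subgroup G) P) :
    ∃ y ∈ P ⊔ R, ∃ n, 1 ≤ n ∧ NOne.Flat.WW (X0 (S : Subgroup G)) (MulAut.conj y • F) ≤ (S : Subgroup G) ∧
      FrT {P, R} S (P ⊔ R) (X0 (S : Subgroup G)) (MulAut.conj y • F) n ∧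
      ∃ g Q, Gal {P, R} n 1 g ∧ Q ∈ ({P, R} : Set (Subgroup G)) ∧
        ¬ MulAut.conj g • zl (S : Subgroup G) Q ≤ EE (X0 (S : Subgroup G)) (MulAut.conj y • F) := by
  classical
  set 𝒯 : Set (Subgroup G) := {P, R} with h𝒯
  have hMV := h.Y_le w hP
  have hTT : ∀ Q ∈ 𝒯, IsParS (S : Subgroup G) Q := by
    rintro Q (rfl | rfl)
    · exact hP.par
    · exact w.par
  have hTM : ∀ Q ∈ 𝒯, Q ≤ P ⊔ R := by
    rintro Q (rfl | rfl)
    · exact le_sup_left
    · exact le_sup_right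
  have hPT : P ∈ 𝒯 := Or.inl rfl
  have hgen : P ⊔ R ≤ sSup 𝒯 := sup_le (le_sSup hPT) (le_sSup (Or.inr rfl))
  have wf : WFr S (M0 (S : Subgroup G)) (X0 (S : Subgroup G)) F :=
    { hc := h.ctx.char2, noff := h.noFF, low := h.low, hyp := w.hyp
      PM := fun R hR => par_le hR, MV := M0_norm _, ZV := h.zc_le_X0, WS := w.WS }
  have hYM : P ⊔ R ≤ M0 (S : Subgroup G) := sup_le (par_le hP.par) (par_le w.par)
  have hex : ∃ n : ℕ, ∃ g Q, ChT 𝒯 (P ⊔ R) (S : Subgroup G)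
      (NOne.Flat.WW (X0 (S : Subgroup G)) F) n g ∧ Q ∈ 𝒯 ∧
      ¬ MulAut.conj g • zl (S : Subgroup G) Q ≤ EE (X0 (S : Subgroup G)) F := by
    by_contra hcon
    push Not at hcon
    apply h.not_le_EE w hP
    refine iSup_le fun y => ?_
    obtain ⟨k, hk⟩ := Pas.exists_galT (hgen y.2)
    have h1 := hcon k y P ⟨1, one_mem _, by rw [map_one, one_smul]; exact w.WS, hk⟩ hPT
    exact (conj_le_iff.2 (MinSimple.VModule.zc_le_zl (S : Subgroup G) P)).trans h1
  obtain ⟨g, Q, hg, hQ, hgQ⟩ := Nat.find_spec hex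
  have hmin := fun j (hj : j < Nat.find hex) => Nat.find_min hex hj
  set n := Nat.find hex with hn
  have hn1 : 1 ≤ n := by
    by_contra h0
    have h0 : n = 0 := by omega
    rw [h0] at hg
    have hgM := hg.mem hTM
    exact hgQ (wf.good (hYM hgM) hg.zero_le (hTT Q hQ))
  have fr : FrT 𝒯 S (P ⊔ R) (X0 (S : Subgroup G)) F n := by
    refine ⟨h.ctx.char2, h.noFF, w.hyp, hTT, hTM, hMV, h.zc_le_X0, ?_, ?_⟩
    · intro j hj x hx Q hQ
      by_contra hcon
      exact hmin j hj ⟨x, Q, hx, hQ, hcon⟩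
    · refine ChT.mono (Nat.zero_le n) ⟨P, hPT⟩ ?_
      exact ⟨1, one_mem _, by rw [map_one, one_smul]; exact w.WS, Gal.zero _⟩
  obtain ⟨a, ha, haW, hag⟩ := hg
  have haV : a⁻¹ ∈ normalizer (X0 (S : Subgroup G) : Set G) := hMV (inv_mem ha)
  have hW : NOne.Flat.WW (X0 (S : Subgroup G)) (MulAut.conj a⁻¹ • F) ≤ (S : Subgroup G) := by
    have e : NOne.Flat.WW (X0 (S : Subgroup G)) (MulAut.conj a⁻¹ • F) =
      MulAut.conj a⁻¹ • NOne.Flat.WW (X0 (S : Subgroup G)) F := (WW_conj haV).symm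
    rw [e]
    exact le_conj_iff.1 haW
  refine ⟨a⁻¹, inv_mem ha, n, hn1, hW, frT_conj fr (inv_mem ha) hW ⟨P, hPT⟩, a⁻¹ * g, Q, ?_, hQ, ?_⟩
  · have h1 := hag.mul_left a⁻¹
    rwa [inv_mul_cancel] at h1
  · intro h1
    apply hgQ
    have e : EE (X0 (S : Subgroup G)) (MulAut.conj a⁻¹ • F) = MulAut.conj a⁻¹ • EE (X0 (S : Subgroup G)) F :=
      (EE_conj haV).symm
    rw [e, ← conj_conj] at h1
    exact conj_le_iff.1 h1

/-- **No (NS).** -/
theorem false_of_two (h : Rad S) (w : WSt S R F) (hP : PSS (S : Subgroup G) P) {K : Type} [Field K] [Finite K]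
    [CharP K 2] {k : ℕ} (M : NatKM K (S : Subgroup G) R (zl (S : Subgroup G) R) (cv (S : Subgroup G) R) k)
    (hK : 2 < Nat.card K) (ha : (EE (X0 (S : Subgroup G)) F).relIndex (X0 (S : Subgroup G)) = 2) : False := by
  classical
  obtain ⟨y, hy, n, hn, hWS, fr, g, Q, hgal, hQ, hbad⟩ := exists_front h w hP
  have hMV := h.Y_le w hP
  have hyV := hMV hy
  set V := X0 (S : Subgroup G) with hV
  set F₁ := MulAut.conj y • F with hF₁
  have ha₁ : (EE V F₁).relIndex V = 2 := by rw [hF₁, relIndex_conj hyV, ha]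
  have hyp₁ : NOne.Flat.Hyp V F₁ := w.hyp.conj hyV
  have nb := ThmB.Inst.nb h.ctx.char2 w.par M
  have hPT : P ∈ ({P, R} : Set (Subgroup G)) := Or.inl rfl
  have hRT : R ∈ ({P, R} : Set (Subgroup G)) := Or.inr rfl
  -- passivity
  have pas : ∀ y' ∈ P ⊔ R, MulAut.conj y' • NOne.Flat.WW V F₁ ≤ (S : Subgroup G) →
      MulAut.conj y' • NOne.Flat.WW V F₁ ≤ o2 P := by
    intro y' hy' h1
    have h2 := hMV hy'
    have e : NOne.Flat.WW V (MulAut.conj y' • F₁) = MulAut.conj y' • NOne.Flat.WW V F₁ := (WW_conj h2).symm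
    rw [← e] at h1 ⊢
    exact h.pas hP (hyp₁.conj h2) h1
  have hWP : NOne.Flat.WW V F₁ ≤ o2 P := h.pas hP hyp₁ hWS
  -- lines at distance 0
  have good0 : ∀ y' ∈ P ⊔ R, NOne.Flat.WW V F₁ ≤ MulAut.conj y' • (S : Subgroup G) → ∀ Q' ∈ ({P, R} : Set (Subgroup G)),
      MulAut.conj y' • zl (S : Subgroup G) Q' ≤ EE V F₁ := fun y' hy' hW Q' hQ' =>
    fr.least 0 hn y' ⟨y', hy', hW, Gal.zero _⟩ Q' hQ'
  have hch : ∀ {j : ℕ} {x : G}, Gal {P, R} j 1 x → ChT {P, R} (P ⊔ R) (S : Subgroup G) (NOne.Flat.WW V F₁) j x :=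
    fun hx => ⟨1, one_mem _, by rw [map_one, one_smul]; exact hWS, hx⟩
  -- chambers of `Δ`
  have hDP : ∀ p ∈ P, NOne.Flat.WW V F₁ ≤ MulAut.conj p • (S : Subgroup G) := by
    intro p hp
    rw [le_conj_iff]
    have h1 := conj_le_iff (g := p⁻¹).2 hWP
    rw [conj_eq_of_norm (MinSimple.VModule.le_normalizer_o2 P (inv_mem hp))] at h1
    exact h1.trans (hP.par.isLoc.o2_le S)
  -- `R` is active
  have act : ¬ NOne.Flat.WW V F₁ ≤ o2 R := by
    intro hWR
    obtain ⟨m, rfl⟩ : ∃ m, n = m + 1 := ⟨n - 1, by omega⟩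
    obtain ⟨Q', hQ', q, hq, h1⟩ := gal_head hgal
    rw [one_mul] at h1
    have h2 : NOne.Flat.WW V F₁ ≤ MulAut.conj q • (S : Subgroup G) := by
      rcases hQ' with rfl | rfl
      · exact hDP q hq
      · rw [le_conj_iff]
        have h1 := conj_le_iff (g := q⁻¹).2 hWR
        rw [conj_eq_of_norm (MinSimple.VModule.le_normalizer_o2 _ (inv_mem hq))] at h1
        exact h1.trans (w.par.isLoc.o2_le S)
    exact hbad (fr.least m (Nat.lt_succ_self m) g ⟨q, fr.PM Q' hQ' hq, h2, h1⟩ Q hQ)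
  have w₁ : WSt S R F₁ := { toW0 := h.toW0, par := w.par, hyp := hyp₁, WS := hWS, mv := act }
  have kf : KF S P R V F₁ :=
    { hc := h.ctx.char2, hyp := hyp₁, hP := hP.par, hR := w.par, PV := le_sup_left.trans hMV
      RV := le_sup_right.trans hMV, ZV := h.zc_le_X0, WS := hWS, pas := pas, act := act }
  -- the group `B`
  have bh := bhT fr
  have hLE : zl (S : Subgroup G) R ≤ EE V F₁ := by
    have h3 := good0 1 (one_mem _) (by rw [map_one, one_smul]; exact hWS) R hRT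
    rwa [map_one, one_smul] at h3
  have hmv : ¬ NOne.Flat.WW V F₁ ≤ centralizer (zl (S : Subgroup G) R : Set G) := fun h3 => act (by
    rw [← kf.o2R_eq]; exact le_inf hWS h3)
  have hoff := offM_of_le hyp₁ hLE hmv
  have inI : ∀ {j : ℕ}, j ≤ n → ∀ {x : G}, ChT {P, R} (P ⊔ R) (S : Subgroup G) (NOne.Flat.WW V F₁) j x →
      ∀ {Q'}, Q' ∈ ({P, R} : Set (Subgroup G)) → MulAut.conj x • zl (S : Subgroup G) Q' ≤ EE V F₁ →
      MulAut.conj x • zl (S : Subgroup G) Q' ≤ V ⊓ BLT {P, R} (P ⊔ R) (S : Subgroup G) V F₁ n := by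
    intro j hj x hx Q' hQ' hE
    exact le_inf (fr.line_le_V (fr.mem_M hx) hQ') ((FrT.le_BB' (FrT.mem_Gd hj hx hQ' hE)).trans le_sup_left)
  have hL : zl (S : Subgroup G) R ≤ V ⊓ BLT {P, R} (P ⊔ R) (S : Subgroup G) V F₁ n := by
    have h3 := inI (Nat.zero_le n) (hch (Gal.zero 1)) hRT (by rw [map_one, one_smul]; exact hLE)
    rwa [map_one, one_smul] at h3
  have hLF : ¬ zl (S : Subgroup G) R ≤ F₁ := by
    intro h1
    apply hmv
    intro s hs
    rw [mem_centralizer_iff]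
    exact fun l hl => NOne.Flat.Hyp.F_comm (h1 hl) (NOne.Flat.Hyp.W_le_X hs)
  have hI : ¬ V ⊓ BLT {P, R} (P ⊔ R) (S : Subgroup G) V F₁ n ≤ F₁ := fun h1 => hLF (hL.trans h1)
  have hgM := fr.mem_M (hch hgal)
  have hgV := hMV hgM
  have hBS := Pas.BL_le_conjT fr le_rfl (hch hgal)
  have hQp := fr.TT Q hQ
  have hT := concl_conj FF.Glob.ffthmM h.ctx.char2 hQp (h.low Q hQp) bh hgV hI hBS (fr.line_le_V hgM hQ) hbad
  have hmain := main_conj h.ctx.char2 hQp hT bh fr.sup_sq hgV hBS (fr.line_le_V hgM hQ) hbad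
  have hi4 : F₁.relIndex (V ⊓ BLT {P, R} (P ⊔ R) (S : Subgroup G) V F₁ n) ≤ 4 := by
    rcases hmain with h1 | h1 | ⟨h1, -, -⟩
    · rw [ha₁] at h1; omega
    · rw [ha₁] at h1; omega
    · exact h1.le
  obtain ⟨hK4, hL4, hLF', j0, hj1, hj2⟩ := ns bh nb hK hL hi4 hWS hoff
  have hi : 2 < F₁.relIndex (V ⊓ BLT {P, R} (P ⊔ R) (S : Subgroup G) V F₁ n) := by
    have h1 : F₁.relIndex (zl (S : Subgroup G) R) ≤ F₁.relIndex (V ⊓ BLT {P, R} (P ⊔ R) (S : Subgroup G) V F₁ n) :=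
      relIndex_le_of_le_right hL index_ne_zero_of_finite
    omega
  -- the bad line is of type `R`
  have hQR : Q = R := by
    rcases hQ with rfl | rfl
    · exfalso
      have hcv : cv (S : Subgroup G) Q = ⊥ := (h.toHypC.hypN hP.par hP.nonLoc).toHyp.cv
      have h1 := le_of_cv h.ctx.char2 hQp (by
        unfold ConclM at hT
        rw [hcv] at hT
        exact hT) bh fr.sup_sq hgV hBS (fr.line_le_V hgM hPT) hbad
      rw [ha₁] at h1
      omega
    · rfl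
  subst hQR
  -- the last step
  obtain ⟨m, rfl⟩ : ∃ m, n = m + 1 := ⟨n - 1, by omega⟩
  obtain ⟨Q', p, g', hg', hQ', hp, rfl⟩ : ∃ Q' p g', Gal {P, Q} m 1 g' ∧ Q' ∈ ({P, Q} : Set (Subgroup G)) ∧ p ∈ Q' ∧
      g = g' * p := by
    cases hgal with
    | @step _ _ g' p Q' hg' hQ' hp => exact ⟨Q', p, g', hg', hQ', hp, rfl⟩
  have hpP : p ∈ P := by
    rcases hQ' with rfl | rfl
    · exact hp
    · exfalso
      apply hbad
      rw [← conj_conj, conj_eq_of_norm (MinSimple.VModule.le_normalizer_zl _ _ hp)]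
      exact fr.least m (Nat.lt_succ_self m) g' (hch hg') _ hRT
  -- chambers `x ∈ P` are at distance `0`
  have hPbad : ∀ x ∈ P, MulAut.conj x • zl (S : Subgroup G) Q ≤ EE V F₁ := fun x hx =>
    good0 x ((le_sup_left : P ≤ P ⊔ Q) hx) (hDP x hx) Q hRT
  rcases m with - | m
  · cases hg'
    rw [one_mul] at hbad
    exact hbad (hPbad p hpP)
  rcases m with - | m
  · -- distance 2
    obtain ⟨Q₂, hQ₂, r, hr, h1⟩ := gal_head hg'
    cases h1
    rw [one_mul] at hbad hBS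
    rcases hQ₂ with rfl | rfl
    · exact hbad (hPbad _ (mul_mem hr hpP))
    · refine kf.false_near M (by rw [ha₁]; exact hK) bh fr.sup_sq hLF' hi hj1 hj2
        (fun y' hy' hW => good0 y' hy' hW _ hRT) (fun x hx => ?_) hr hpP hBS hbad (h.rad _ F₁ w₁)
      have h1 : Gal {P, Q₂} 1 1 x := by
        have h2 := Gal.one (F := {P, Q₂}) hRT (g := 1) hx
        rwa [one_mul] at h2
      exact inI (by omega) (hch h1) hPT (fr.least 1 (by omega) x (hch h1) P hPT)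
  · -- distance at least 3
    refine h.not_le_EE w₁ hP (kf.false_far hLF' (fun r hr p hp => ?_) hPbad)
    have h1 : Gal {P, Q} 2 1 (r * p) := by
      have h2 := (Gal.one (F := {P, Q}) hRT (g := 1) hr).step hPT hp
      rwa [one_mul] at h2
    exact inI (by omega) (hch h1) hRT (fr.least 2 (by omega) _ (hch h1) Q hRT)

/-- **The KEY over the front of (S1).** -/
theorem key_fnt (h : Rad S) (w : WSt S R F) (hP : PSS (S : Subgroup G) P) {n : ℕ}
    (f : Fnt S P R (X0 (S : Subgroup G)) F n) {g : G} {Q : Subgroup G}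
    (hg : ChT (TT (S : Subgroup G) P R) (P ⊔ R) (S : Subgroup G) (NOne.Flat.WW (X0 (S : Subgroup G)) F) n g)
    (hQ : Q ∈ TT (S : Subgroup G) P R) (hbad : ¬ MulAut.conj g • zl (S : Subgroup G) Q ≤ EE (X0 (S : Subgroup G)) F) :
    Key (X0 (S : Subgroup G)) F (BF (TT (S : Subgroup G) P R) (P ⊔ R) (S : Subgroup G) (X0 (S : Subgroup G)) n F) := by
  have hgM := f.fr.mem_M hg
  have hgV := f.norm hgM
  have hQp := f.fr.TT Q hQ
  have hBS := Pas.BL_le_conjT f.fr le_rfl hg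
  have hmv : ¬ NOne.Flat.WW (X0 (S : Subgroup G)) F ≤ centralizer (zl (S : Subgroup G) R : Set G) := fun h3 => w.mv (by
    rw [← IsParS.inf_centralizer S h.ctx.char2 w.par]; exact le_inf w.WS h3)
  have hI : ¬ X0 (S : Subgroup G) ⊓ BF (TT (S : Subgroup G) P R) (P ⊔ R) (S : Subgroup G) (X0 (S : Subgroup G)) n F ≤ F := by
    intro h1
    apply hmv
    intro s hs
    rw [mem_centralizer_iff]
    exact fun l hl => NOne.Flat.Hyp.F_comm (h1 (f.zl_le_I P₁_mem_TT hl)) (NOne.Flat.Hyp.W_le_X hs)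
  rcases key_or FF.Glob.ffthmM h.ctx.char2 hQp (h.low Q hQp) f.bh f.fr.sup_sq hgV hI hBS (f.fr.line_le_V hgM hQ) hbad with
    h1 | ⟨-, h2, h3, h4⟩
  · exact h1
  · exfalso
    rcases hQ with rfl | ⟨v, hv, rfl⟩
    · exact h4 (h.toHypC.hypN hP.par hP.nonLoc).toHyp.cv
    · obtain ⟨K, fK, fiK, cK, k, -, hK, ⟨M⟩⟩ := h3
      have hvV : v ∈ normalizer (X0 (S : Subgroup G) : Set G) := f.norm ((le_sup_left : P ≤ P ⊔ R) hv.1)
      have eW : NOne.Flat.WW (X0 (S : Subgroup G)) (MulAut.conj v • F) =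
        MulAut.conj v • NOne.Flat.WW (X0 (S : Subgroup G)) F := (WW_conj hvV).symm
      have w' : WSt S (MulAut.conj v • R) (MulAut.conj v • F) :=
        { toW0 := h.toW0, par := hQp, hyp := w.hyp.conj hvV
          WS := by
            rw [eW]
            have h5 := conj_le_iff (g := v).2 w.WS
            rwa [conj_eq_of_norm hv.2] at h5
          mv := by
            rw [eW, ← o2_conj]
            exact fun h5 => w.mv (conj_le_iff.1 h5) }
      exact false_of_two h w' hP M hK (by rw [relIndex_conj hvV, h2])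

end Cfsg.Agent.Omega.NO3S.SOne.KeyLe

end

-- merged: Cfsg.Agent.Mrg.Omega.NO3S.SOne.KeyInst
section

/-!
# GammaFF, (S1) (#21629): the KEY for the front (T8)

Over 905's `KeyRad.key_or`: a bad line of type `P` or `P₁^v` at distance `n`: `Key V F B`, or the exceptional case
`|I : F| = 4`, `|V : E| = 2`, `P₁` natural over a field with at least 4 elements, `cv S P₁ ≠ 1`.

* `key_of_const` : constant commutators on `L₁` with `L₁ F = I` give the KEY;
* `Fnt.key_of_const` : constant commutators on `L₁` give the KEY for every bad line.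
-/

set_option autoImplicit false
set_option linter.unusedSectionVars false

namespace Cfsg.Agent.Omega.NO3S.SOne

open Subgroup Cfsg Cfsg.Agent.ZN Cfsg.Agent.Omega.MinPar
open Cfsg.Agent.Omega.NOne.Flat (EE NN BadX Cos conj_eq_of_norm conj_centralizer WW_conj EE_conj)
open Cfsg.Agent.Omega.NoFF.Basic (conj_conj mem_conj conj_le_iff conj_le_centralizer)
open Cfsg.Agent.Omega.FrameNOFF (CZ)
open Cfsg.Agent.Omega.FrameFF (cv)
open Cfsg.Agent.Omega.FFThm (StmtM ConclM OffM NoOverM)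
open Cfsg.Agent.Omega.NO3S.Pas (ChT GdT BBT FrT BLT bhT WFr Key)
open Cfsg.Agent.Omega.NO3S.KeyRad (NatBig key_or)
open scoped Pointwise

universe u

variable {G : Type u} [Group G] [Finite G] {S : Sylow 2 G} {P P₁ V F : Subgroup G} {n : ℕ}

/-- **(T8)** -/
theorem Fnt.key_or (h : Fnt S P P₁ V F n) (hFF : StmtM.{u})
    (hlow : ∀ Q, IsParS (S : Subgroup G) Q → zl (S : Subgroup G) Q ≤ o2 (CZ (S : Subgroup G)))
    (hcv : cv (S : Subgroup G) P = ⊥) (act : ¬ NOne.Flat.WW V F ≤ o2 P₁) {g : G} {R : Subgroup G}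
    (hg : ChT (TT (S : Subgroup G) P P₁) (P ⊔ P₁) (S : Subgroup G) (NOne.Flat.WW V F) n g)
    (hR : R ∈ TT (S : Subgroup G) P P₁) (hbad : ¬ MulAut.conj g • zl (S : Subgroup G) R ≤ EE V F) :
    Key V F (BF (TT (S : Subgroup G) P P₁) (P ⊔ P₁) (S : Subgroup G) V n F) ∨
      (F.relIndex (IF (TT (S : Subgroup G) P P₁) (P ⊔ P₁) (S : Subgroup G) V n F) = 4 ∧ (EE V F).relIndex V = 2 ∧
        NatBig (S : Subgroup G) P₁ ∧ cv (S : Subgroup G) P₁ ≠ ⊥) := by
  have hL : zl (S : Subgroup G) P₁ ≤ IF (TT (S : Subgroup G) P P₁) (P ⊔ P₁) (S : Subgroup G) V n F :=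
    h.zl_le_I P₁_mem_TT
  have hI : ¬ V ⊓ BF (TT (S : Subgroup G) P P₁) (P ⊔ P₁) (S : Subgroup G) V n F ≤ F := by
    intro h1
    apply act
    rw [← h.par₁.inf_centralizer S h.fr.hc]
    refine le_inf h.WS ?_
    intro s hs
    rw [mem_centralizer_iff]
    exact fun l hl => NOne.Flat.Hyp.F_comm (h1 (hL hl)) (NOne.Flat.Hyp.W_le_X hs)
  have hgM := h.fr.mem_M hg
  have hgN := h.norm hgM
  have hBS := Pas.BL_le_conjT h.fr le_rfl hg
  have key : ∀ (Q : Subgroup G) (g' : G), IsParS (S : Subgroup G) Q → g' ∈ normalizer (V : Set G) →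
      MulAut.conj g' • (S : Subgroup G) = MulAut.conj g • (S : Subgroup G) →
      MulAut.conj g' • zl (S : Subgroup G) Q = MulAut.conj g • zl (S : Subgroup G) R →
      Key V F (BF (TT (S : Subgroup G) P P₁) (P ⊔ P₁) (S : Subgroup G) V n F) ∨
      (F.relIndex (V ⊓ BF (TT (S : Subgroup G) P P₁) (P ⊔ P₁) (S : Subgroup G) V n F) = 4 ∧ (EE V F).relIndex V = 2 ∧
        NatBig (S : Subgroup G) Q ∧ cv (S : Subgroup G) Q ≠ ⊥) := by
    intro Q g' hQ hg' e1 e2
    refine KeyRad.key_or hFF h.fr.hc hQ (hlow Q hQ) h.bh h.fr.sup_sq hg' hI ?_ ?_ ?_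
    · rw [e1]; exact hBS
    · rw [e2]; exact h.fr.line_le_V hgM hR
    · rw [e2]; exact hbad
  rcases hR with rfl | ⟨v, hv, rfl⟩
  · rcases key R g h.par hgN rfl rfl with h1 | ⟨-, -, -, h4⟩
    · exact Or.inl h1
    · exact absurd hcv h4
  · have hvM : v ∈ P ⊔ P₁ := (le_sup_left : P ≤ P ⊔ P₁) hv.1
    refine key P₁ (g * v) h.par₁ (h.norm (mul_mem hgM hvM)) ?_ ?_
    · rw [← conj_conj, conj_eq_of_norm hv.2]
    · rw [← conj_conj, zl_conj hv.2]

/-- `Const L W`, `L F = I` ⟹ KEY -/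
theorem key_of_const {B L : Subgroup G} (bh : NOThreeL.Low.Key.BH V F B) (hL : L ≤ V ⊓ B) (hLF : L ⊔ F = V ⊓ B)
    (hc : NOThreeL.NF.NatR.Const L (NOne.Flat.WW V F)) : Key V F B := by
  refine KeyRad.key_of_root bh fun r hr hrF r' hr' hrF' s hs => ?_
  rw [← hLF] at hr hr'
  have hF : F ≤ normalizer (L : Set G) := by
    have h11 : F ≤ centralizer (L : Set G) := fun f hf => mem_centralizer_iff.2 fun x hx =>
      bh.toHyp.V_comm (hL hx).1 (bh.toHyp.F_le_V hf)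
    exact h11.trans (centralizer_le_normalizer _)
  obtain ⟨l, hl, f, hf, rfl⟩ := Pas.mem_sup_of_norm hF hr
  obtain ⟨l', hl', f', hf', rfl⟩ := Pas.mem_sup_of_norm hF hr'
  have hcf : ∀ l f s : G, f ∈ F → s ∈ NOne.Flat.WW V F → NOne.NearFF.c (l * f) s = NOne.NearFF.c l s := by
    intro l f s hf hs
    have h12 : f * s = s * f := NOne.Flat.Hyp.F_comm hf (NOne.Flat.Hyp.W_le_X hs)
    rw [NOne.NearFF.c, NOne.NearFF.c]
    calc l * f * s * (l * f)⁻¹ * s⁻¹ = l * (f * s) * f⁻¹ * l⁻¹ * s⁻¹ := by group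
      _ = l * (s * f) * f⁻¹ * l⁻¹ * s⁻¹ := by rw [h12]
      _ = _ := by group
  have key : ∀ l f : G, l ∈ L → f ∈ F → l * f ∉ F → l ∉ centralizer (NOne.Flat.WW V F : Set G) := by
    intro l f hl hf h1 h12
    apply h1
    have h13 : l ∈ V ⊓ centralizer (NOne.Flat.WW V F : Set G) := ⟨(hL hl).1, h12⟩
    rw [bh.toHyp.cent_VW] at h13
    exact mul_mem h13 hf
  obtain ⟨t, ht, e⟩ := hc l hl (key l f hl hf hrF) l' hl' (key l' f' hl' hf' hrF') s hs
  refine ⟨t, ht, ?_⟩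
  rw [hcf _ _ _ hf' ht, hcf _ _ _ hf hs, NOne.NearFF.c_def, NOne.NearFF.c_def]
  have e1 : l * s * l⁻¹ * s⁻¹ = (s * l * s⁻¹ * l⁻¹)⁻¹ := by group
  have e2 : l' * t * l'⁻¹ * t⁻¹ = (t * l' * t⁻¹ * l'⁻¹)⁻¹ := by group
  rw [e1, e2, e]

/-- **constant commutators on `L₁` give the KEY** -/
theorem Fnt.key_of_const (h : Fnt S P P₁ V F n) (hFF : StmtM.{u})
    (hlow : ∀ Q, IsParS (S : Subgroup G) Q → zl (S : Subgroup G) Q ≤ o2 (CZ (S : Subgroup G)))
    (hcv : cv (S : Subgroup G) P = ⊥) (act : ¬ NOne.Flat.WW V F ≤ o2 P₁) {g : G} {R : Subgroup G}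
    (hg : ChT (TT (S : Subgroup G) P P₁) (P ⊔ P₁) (S : Subgroup G) (NOne.Flat.WW V F) n g)
    (hR : R ∈ TT (S : Subgroup G) P P₁) (hbad : ¬ MulAut.conj g • zl (S : Subgroup G) R ≤ EE V F)
    (hc : NOThreeL.NF.NatR.Const (zl (S : Subgroup G) P₁) (NOne.Flat.WW V F)) :
    Key V F (BF (TT (S : Subgroup G) P P₁) (P ⊔ P₁) (S : Subgroup G) V n F) := by
  rcases h.key_or hFF hlow hcv act hg hR hbad with h1 | ⟨h1, -, h3, -⟩
  · exact h1
  · have so := h.so act
    obtain ⟨K, fK, fiK, cK, k, -, hK, ⟨M⟩⟩ := h3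
    have hoff : OffM (zl (S : Subgroup G) P₁) (NOne.Flat.WW V F) :=
      offM_of_le h.hyp (so.L_le_I.trans so.toBH.I_le_E) so.mov
    obtain ⟨-, -, h4, -⟩ := KeyRad.ns h.bh (ThmB.Inst.nb h.fr.hc h.par₁ M) hK so.L_le_I h1.le h.WS hoff
    exact SOne.key_of_const h.bh so.L_le_I h4 hc

end Cfsg.Agent.Omega.NO3S.SOne

end

-- merged: Cfsg.Agent.Mrg.Omega.NO3S.SOne.Good
section

section


/-!
# GammaFF, (S1) (#21629), (ii): good lines

`h ∈ N_P(S)`, `L₂ = L₁^h`, `W₂ = W^h`, `W` centralises `L₂`, `W₂` centralises `L₁`, `g ∈ P₁` generic with `L₂^g ≤ E`: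
`Z ∩ R₁^h ≤ C(P₁)`.
-/

set_option autoImplicit false
set_option linter.unusedSectionVars false

namespace Cfsg.Agent.Omega.NO3S.SOne

open Subgroup Cfsg Cfsg.Agent.ZN Cfsg.Agent.Omega.MinPar
open Cfsg.Agent.Omega.NOne.Flat (EE NN conj_eq_of_norm conj_centralizer)
open Cfsg.Agent.Omega.NOne.NearFF (c c_def)
open Cfsg.Agent.Omega.NoFF.Basic (conj_conj mem_conj conj_le_iff conj_le_centralizer comm_symm)
open Cfsg.Agent.Omega.NO3S.Pas (Key)
open scoped Pointwise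

universe u

variable {G : Type u} [Group G] [Finite G] {S : Sylow 2 G} {V F B P P₁ : Subgroup G}

theorem conj_commutator (g : G) (A B : Subgroup G) :
    MulAut.conj g • ⁅A, B⁆ = ⁅MulAut.conj g • A, MulAut.conj g • B⁆ :=
  Subgroup.map_commutator A B (MulAut.conj g).toMonoidHom

/-- `A` is normalised by `K` if `k A k⁻¹ ≤ A` for all `k ∈ K`. -/
theorem le_normalizer_of {A K : Subgroup G} (h : ∀ k ∈ K, ∀ x ∈ A, k * x * k⁻¹ ∈ A) :
    K ≤ normalizer (A : Set G) := by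
  intro k hk
  rw [mem_normalizer_iff]
  intro y
  refine ⟨h k hk y, fun hy => ?_⟩
  have h1 := h k⁻¹ (inv_mem hk) _ hy
  have e : k⁻¹ * (k * y * k⁻¹) * k⁻¹⁻¹ = y := by group
  rwa [e] at h1

/-- **(ii)** -/
theorem SO.good (so : SO S V F B P P₁) (hk : Key V F B) {h g : G} (hh : h ∈ P)
    (hN : h ∈ normalizer ((S : Subgroup G) : Set G)) (hg : Gen (S : Subgroup G) P₁ (NOne.Flat.WW V F) g)
    (h1 : NOne.Flat.WW V F ≤ centralizer ((MulAut.conj h • zl (S : Subgroup G) P₁ : Subgroup G) : Set G))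
    (h2 : MulAut.conj h • NOne.Flat.WW V F ≤ centralizer (zl (S : Subgroup G) P₁ : Set G))
    (hgood : MulAut.conj (g * h) • zl (S : Subgroup G) P₁ ≤ EE V F) :
    zc (S : Subgroup G) ⊓ MulAut.conj h • RR (S : Subgroup G) P₁ (NOne.Flat.WW V F) ≤ centralizer (P₁ : Set G) := by
  set W : Subgroup G := NOne.Flat.WW V F with hW
  set L : Subgroup G := zl (S : Subgroup G) P₁ with hL
  set d : Subgroup G := MulAut.conj h • L with hd
  have hS : MulAut.conj h • (S : Subgroup G) = S := conj_eq_of_norm hN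
  have hhY : h ∈ P ⊔ P₁ := (le_sup_left : P ≤ P ⊔ P₁) hh
  have hgY : g ∈ P ⊔ P₁ := (le_sup_right : P₁ ≤ P ⊔ P₁) hg.mem
  have hLV : L ≤ V := so.L_le_V
  have hdV : d ≤ V := so.line_le_V hhY
  have hPL : P₁ ≤ normalizer (L : Set G) := so.PL
  have hSd : (S : Subgroup G) ≤ normalizer (d : Set G) := by
    refine le_normalizer_of fun s hs x hx => ?_
    have hs' : h⁻¹ * s * h ∈ (S : Subgroup G) := by
      have h3 : s ∈ MulAut.conj h • (S : Subgroup G) := by rw [hS]; exact hs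
      exact mem_conj.1 h3
    rw [hd, mem_conj] at hx ⊢
    have h3 := (mem_normalizer_iff.1 (hPL (so.SP₁ hs')) _).1 hx
    have e : h⁻¹ * (s * x * s⁻¹) * h = h⁻¹ * s * h * (h⁻¹ * x * h) * (h⁻¹ * s * h)⁻¹ := by group
    rw [e]
    exact h3
  have hdL : d ≤ normalizer (L : Set G) :=
    (hdV.trans (so.comm.trans (centralizer_le hLV))).trans (centralizer_le_normalizer _)
  -- `A = L₂ L₁`
  set A : Subgroup G := d ⊔ L with hA
  have hAV : A ≤ V := sup_le hdV hLV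
  have hgI : MulAut.conj g • d ≤ B := by
    rw [hd, conj_conj]
    exact so.line1 g hg.mem h hh hN hgood
  have hAI : MulAut.conj g • A ≤ V ⊓ B := by
    refine le_inf ?_ ?_
    · have h3 := conj_le_iff (g := g).2 hAV
      rwa [so.conj_V hgY] at h3
    · rw [hA, Subgroup.smul_sup]
      refine sup_le hgI ?_
      rw [so.conj_L hg.mem]
      exact so.L_le_I.trans inf_le_right
  have hAW : ∀ x ∈ A, ∀ s ∈ MulAut.conj g⁻¹ • W, c x s ∈ L := by
    intro x hx s hs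
    rw [mem_conj, inv_inv] at hs
    have hx' : g * x * g⁻¹ ∈ V ⊓ B := hAI (NOne.Frame.conj_mem hx)
    have h3 := hk.mem so.toBH so.L_le_I so.mov hx' hs
    have h4 : ⁅L, W⁆ ≤ L := by
      rw [commutator_le]
      intro l hl t ht
      rw [commutatorElement_def, ← c_def]
      exact NOThreeL.Low.Key.c_mem_left hl (hPL (so.SP₁ (so.WS ht)))
    have h5 := (mem_normalizer_iff.1 (hPL (inv_mem hg.mem)) _).1 (h4 h3)
    have e : g⁻¹ * c (g * x * g⁻¹) (g * s * g⁻¹) * g⁻¹⁻¹ = c x s := by rw [c_def, c_def]; group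
    rwa [e] at h5
  have hSA : (S : Subgroup G) ≤ normalizer (A : Set G) := by
    refine le_normalizer_of fun s hs x hx => ?_
    have h3 : MulAut.conj s • A = A := by
      rw [hA, Subgroup.smul_sup, conj_eq_of_norm (hSd hs), conj_eq_of_norm (hPL (so.SP₁ hs))]
    rw [← h3]
    exact NOne.Frame.conj_mem hx
  have hWA : MulAut.conj g⁻¹ • W ≤ normalizer (A : Set G) := by
    refine le_normalizer_of fun s hs x hx => ?_
    have e : s * x * s⁻¹ = x * c x⁻¹ s := by rw [c_def]; group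
    rw [e]
    exact mul_mem hx (le_sup_right (a := d) (hAW x⁻¹ (inv_mem hx) s hs))
  have hPA : P₁ ≤ normalizer (A : Set G) := hg.gen.trans (sup_le hSA hWA)
  -- `X = [A, Q]`
  set X : Subgroup G := closure {y | ∃ u ∈ A, ∃ q ∈ o2 P₁, y = c u q} with hX
  have hQS : o2 P₁ ≤ (S : Subgroup G) := so.hP₁.isLoc.o2_le S
  have hQL : o2 P₁ ≤ centralizer (L : Set G) := by
    rw [← so.o2_eq]
    exact inf_le_right
  have hXc : X ≤ d := by
    rw [hX, closure_le]
    rintro y ⟨u, hu, q, hq, rfl⟩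
    obtain ⟨l, hl, x, hx, rfl⟩ := Cfsg.Agent.Omega.NO3S.Pas.mem_sup_of_norm hdL (by rw [sup_comm]; exact hu)
    have hql : q * l⁻¹ * q⁻¹ = l⁻¹ := by
      have h3 := mem_centralizer_iff.1 (hQL hq) l⁻¹ (inv_mem hl)
      rw [← h3, mul_inv_cancel_right]
    have h4 : q * x⁻¹ * q⁻¹ ∈ d := (mem_normalizer_iff.1 (hSd (hQS hq)) _).1 (inv_mem hx)
    have h3 : x * (q * x⁻¹ * q⁻¹) ∈ d := mul_mem hx h4
    have e1 : c (l * x) q = l * (x * (q * x⁻¹ * q⁻¹)) * (q * l⁻¹ * q⁻¹) := by rw [c_def]; group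
    rw [SetLike.mem_coe, e1, hql, so.V_comm (hLV hl) (hdV h3), mul_inv_cancel_right]
    exact h3
  have hPX : P₁ ≤ normalizer (X : Set G) := by
    refine le_normalizer_of fun t ht x hx => ?_
    induction hx using closure_induction with
    | mem x hx =>
      obtain ⟨u, hu, q, hq, rfl⟩ := hx
      refine subset_closure ⟨t * u * t⁻¹, (mem_normalizer_iff.1 (hPA ht) _).1 hu, t * q * t⁻¹,
        (mem_normalizer_iff.1 (MinSimple.VModule.le_normalizer_o2 P₁ ht) _).1 hq, ?_⟩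
      rw [c_def, c_def]
      group
    | one => rw [mul_one, mul_inv_cancel]; exact one_mem _
    | mul x y _ _ hx hy =>
      have e : t * (x * y) * t⁻¹ = t * x * t⁻¹ * (t * y * t⁻¹) := by group
      rw [e]
      exact mul_mem hx hy
    | inv x _ hx =>
      have e : t * x⁻¹ * t⁻¹ = (t * x * t⁻¹)⁻¹ := by group
      rw [e]
      exact inv_mem hx
  -- `R₁^h ≤ X`
  have hW2 : MulAut.conj h • W ≤ o2 P₁ := by
    rw [← so.o2_eq]
    refine le_inf ?_ h2
    rw [← hS]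
    exact conj_le_iff.2 so.WS
  have hR0 : MulAut.conj h • ⁅L, W⁆ ≤ X := by
    rw [conj_commutator, commutator_le]
    intro x hx w hw
    rw [commutatorElement_def, ← c_def]
    exact subset_closure ⟨x, le_sup_left (b := L) hx, w, hW2 hw, rfl⟩
  have hR : MulAut.conj h • RR (S : Subgroup G) P₁ W ≤ X := by
    rw [conj_le_iff', RR]
    refine iSup_le fun s => ?_
    rw [← conj_le_iff', conj_conj]
    have hs' : h * (s : G) * h⁻¹ ∈ (S : Subgroup G) := by
      have h3 : h * (s : G) * h⁻¹ ∈ MulAut.conj h • (S : Subgroup G) := NOne.Frame.conj_mem s.2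
      rwa [hS] at h3
    have e : h * (s : G) = h * (s : G) * h⁻¹ * h := by group
    rw [e, ← conj_conj]
    refine (conj_le_iff.2 hR0).trans ?_
    rw [conj_eq_of_norm (hPX (so.SP₁ hs'))]
  -- `W^(g⁻¹)` centralises `X`
  have hWX : MulAut.conj g⁻¹ • W ≤ centralizer (X : Set G) := by
    have h3 : W ≤ centralizer (X : Set G) := h1.trans (centralizer_le hXc)
    have h4 := conj_le_centralizer (g := g⁻¹) h3
    rwa [conj_eq_of_norm (hPX (inv_mem hg.mem))] at h4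
  rintro z ⟨hz, hzR⟩
  have hzX : z ∈ X := hR hzR
  rw [mem_centralizer_iff]
  have h5 : P₁ ≤ centralizer ({z} : Set G) := by
    refine hg.gen.trans (sup_le ?_ ?_)
    · intro s hs
      rw [mem_centralizer_singleton_iff]
      exact ((ZN.mem_zc.mp hz).2.1 s hs)
    · intro s hs
      rw [mem_centralizer_singleton_iff]
      exact (mem_centralizer_iff.1 (hWX hs) z hzX).symm
  intro p hp
  exact mem_centralizer_singleton_iff.1 (h5 hp)

end Cfsg.Agent.Omega.NO3S.SOne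

end

section


/-!
# GammaFF, (S1) (#21629): (i) and the assembly, KEY case, `q₀ ≥ 4`

`A = W = WW V F`, `ρ = ⁅L₁, W⁆`, `R₁ = RR S P₁ W = ⟨ρ^S⟩`.

* `comm_sup_cent` : `⁅L, A ⊔ C⁆ = ⁅L, A⁆` if `C` centralises `L`;
* `SO.conj_RR` : (i) `h ∈ N_P(S)`, `W` moves `L₁^h` ⟹ `R₁^h = R₁`;
* `SO.conj_RR'` : the same if `W^h` moves `L₁`;
* `SO.RR_le_V`, `SO.RR_ne` : `Z ∩ R₁ ≠ 1`;
* `SO.false_of` : the end.
-/

set_option autoImplicit false
set_option linter.unusedSectionVars false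

namespace Cfsg.Agent.Omega.NO3S.SOne

open Subgroup Cfsg Cfsg.Agent.ZN Cfsg.Agent.Omega.MinPar
open Cfsg.Agent.Omega.NOne.Flat (EE NN conj_eq_of_norm conj_centralizer)
open Cfsg.Agent.Omega.NoFF.Basic (conj_conj mem_conj conj_le_iff conj_le_centralizer comm_symm)
open Cfsg.Agent.Omega.NOThreeL.Low.Key (BH)
open Cfsg.Agent.Omega.FFThm (ElemM OffM NoOverM)
open Cfsg.Agent.Omega.FrameFF (cv)
open Cfsg.Agent.Omega.NO3S.Pas (Key)
open scoped Pointwise

universe u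

variable {G : Type u} [Group G]

theorem mul_of_mem_sup {A B : Subgroup G} (h : A ≤ normalizer (B : Set G)) {x : G} (hx : x ∈ A ⊔ B) :
    ∃ a ∈ A, ∃ b ∈ B, x = a * b := by
  rw [sup_eq_closure] at hx
  refine closure_induction (fun y hy => ?_) ?_ (fun y z _ _ hy hz => ?_) (fun y _ hy => ?_) hx
  · rcases hy with hy | hy
    · exact ⟨y, hy, 1, B.one_mem, (mul_one y).symm⟩
    · exact ⟨1, A.one_mem, y, hy, (one_mul y).symm⟩
  · exact ⟨1, A.one_mem, 1, B.one_mem, (mul_one 1).symm⟩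
  · obtain ⟨a, ha, b, hb, rfl⟩ := hy
    obtain ⟨a', ha', b', hb', rfl⟩ := hz
    refine ⟨a * a', A.mul_mem ha ha', a'⁻¹ * b * a' * b', B.mul_mem ?_ hb', by group⟩
    have := (mem_normalizer_iff.1 (h (A.inv_mem ha')) b).1 hb
    rwa [inv_inv] at this
  · obtain ⟨a, ha, b, hb, rfl⟩ := hy
    exact ⟨a⁻¹, A.inv_mem ha, a * b⁻¹ * a⁻¹, (mem_normalizer_iff.1 (h ha) b⁻¹).1 (B.inv_mem hb), by group⟩

theorem comm_sup_cent {L A C : Subgroup G} (hC : C ≤ centralizer (L : Set G)) (hA : A ≤ normalizer (C : Set G)) :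
    ⁅L, A ⊔ C⁆ = ⁅L, A⁆ := by
  refine le_antisymm ?_ (commutator_mono le_rfl le_sup_left)
  rw [commutator_le]
  intro l hl x hx
  obtain ⟨a, ha, c, hc, rfl⟩ := mul_of_mem_sup hA hx
  have h1 : l * c = c * l := mem_centralizer_iff.1 (hC hc) l hl
  have h3 : c * l⁻¹ * c⁻¹ = l⁻¹ := by
    have h4 : c * l⁻¹ = l⁻¹ * c := by
      rw [eq_inv_mul_iff_mul_eq, ← mul_assoc, h1, mul_inv_cancel_right]
    rw [h4, mul_inv_cancel_right]
  have h2 : l * (a * c) * l⁻¹ * (a * c)⁻¹ = l * a * l⁻¹ * a⁻¹ := by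
    calc l * (a * c) * l⁻¹ * (a * c)⁻¹ = l * a * (c * l⁻¹ * c⁻¹) * a⁻¹ := by group
      _ = l * a * l⁻¹ * a⁻¹ := by rw [h3]
  rw [commutatorElement_def, h2, ← commutatorElement_def]
  exact commutator_mem_commutator hl ha

theorem cj_comm (g : G) (A B : Subgroup G) :
    MulAut.conj g • ⁅A, B⁆ = ⁅MulAut.conj g • A, MulAut.conj g • B⁆ :=
  Subgroup.map_commutator A B (MulAut.conj g).toMonoidHom

theorem RR_eq_Cl (T H A : Subgroup G) : RR T H A = Trans.Cl T ⁅zl T H, A⁆ := by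
  unfold RR Trans.Cl
  exact iSup_subtype

variable [Finite G] {S : Sylow 2 G} {V F B P P₁ : Subgroup G} {q : ℕ}

namespace SO

variable (so : SO S V F B P P₁)
include so

theorem o2_cent : o2 P₁ ≤ centralizer (zl (S : Subgroup G) P₁ : Set G) := by
  rw [← so.o2_eq]
  exact inf_le_right

/-- `[L₁, A]` depends on `A O₂(P₁)` only -/
theorem comm_o2 {A : Subgroup G} (hA : A ≤ (S : Subgroup G)) :
    ⁅zl (S : Subgroup G) P₁, A ⊔ o2 P₁⁆ = ⁅zl (S : Subgroup G) P₁, A⁆ :=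
  comm_sup_cent so.o2_cent (hA.trans (so.SP₁.trans (le_normalizer_o2 P₁)))

/-- **(i)** -/
theorem conj_RR (hk : Key V F B) (nt : NT (S : Subgroup G) P₁ q) {h : G} (hh : h ∈ P)
    (hN : h ∈ normalizer ((S : Subgroup G) : Set G))
    (hm : ¬ NOne.Flat.WW V F ≤ centralizer ((MulAut.conj h • zl (S : Subgroup G) P₁ : Subgroup G) : Set G)) :
    MulAut.conj h • RR (S : Subgroup G) P₁ (NOne.Flat.WW V F) = RR (S : Subgroup G) P₁ (NOne.Flat.WW V F) := by
  have hY : h ∈ P ⊔ P₁ := (le_sup_left : P ≤ P ⊔ P₁) hh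
  have hS : MulAut.conj h • (S : Subgroup G) = S := conj_eq_of_norm hN
  have hS' : MulAut.conj h⁻¹ • (S : Subgroup G) = S := conj_eq_of_norm (inv_mem hN)
  -- `⁅L₁^h, W⁆ = ρ`
  have h1 : ⁅MulAut.conj h • zl (S : Subgroup G) P₁, NOne.Flat.WW V F⁆ =
      ⁅zl (S : Subgroup G) P₁, NOne.Flat.WW V F⁆ :=
    so.comm_eq hk (so.line_le_I hY (by rw [hS]; exact so.WS)) so.L_le_I hm so.mov
  -- `W^(h⁻¹)`
  have h2 : MulAut.conj h⁻¹ • NOne.Flat.WW V F ≤ (S : Subgroup G) := by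
    rw [← hS']
    exact conj_le_iff.2 so.WS
  have h3 : ¬ MulAut.conj h⁻¹ • NOne.Flat.WW V F ≤ o2 P₁ := by
    intro h3
    apply hm
    have h4 := conj_le_centralizer (g := h) (h3.trans so.o2_cent)
    rwa [conj_smul_inv] at h4
  have h4 := so.ka hk (inv_mem hY) h2 h3
  obtain ⟨s, hs, e⟩ := nt.cls _ _ (nt.min (so.ka_one hk)) (nt.min h4)
  have h5 : MulAut.conj s • zl (S : Subgroup G) P₁ = zl (S : Subgroup G) P₁ := so.conj_L (so.SP₁ hs)
  have h6 : MulAut.conj h⁻¹ • ⁅zl (S : Subgroup G) P₁, NOne.Flat.WW V F⁆ =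
      MulAut.conj s • ⁅zl (S : Subgroup G) P₁, NOne.Flat.WW V F⁆ := by
    have h7 : MulAut.conj s • ⁅zl (S : Subgroup G) P₁, NOne.Flat.WW V F⁆ =
        ⁅zl (S : Subgroup G) P₁, MulAut.conj h⁻¹ • NOne.Flat.WW V F⁆ := by
      rw [← so.comm_o2 so.WS, cj_comm, h5, ← e, so.comm_o2 h2]
    rw [h7, ← h1, cj_comm, conj_inv_smul]
  have h7 : MulAut.conj h⁻¹ • RR (S : Subgroup G) P₁ (NOne.Flat.WW V F) =
      RR (S : Subgroup G) P₁ (NOne.Flat.WW V F) := by
    rw [RR_eq_Cl, Trans.conj_Cl (inv_mem hN), h6, Trans.Cl_conj hs]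
  conv_lhs => rw [← h7]
  rw [conj_smul_inv]

/-- **(i)**, the mirror image -/
theorem conj_RR' (hk : Key V F B) (nt : NT (S : Subgroup G) P₁ q) {h : G} (hh : h ∈ P)
    (hN : h ∈ normalizer ((S : Subgroup G) : Set G))
    (hm : ¬ MulAut.conj h • NOne.Flat.WW V F ≤ centralizer (zl (S : Subgroup G) P₁ : Set G)) :
    MulAut.conj h • RR (S : Subgroup G) P₁ (NOne.Flat.WW V F) = RR (S : Subgroup G) P₁ (NOne.Flat.WW V F) := by
  have hm' : ¬ NOne.Flat.WW V F ≤ centralizer ((MulAut.conj h⁻¹ • zl (S : Subgroup G) P₁ : Subgroup G) : Set G) := by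
    intro h1
    have h2 := conj_le_centralizer (g := h) h1
    rw [conj_smul_inv] at h2
    exact hm h2
  have h1 := so.conj_RR hk nt (inv_mem hh) (inv_mem hN) hm'
  conv_lhs => rw [← h1]
  rw [conj_smul_inv]

theorem L_le_S : zl (S : Subgroup G) P₁ ≤ (S : Subgroup G) :=
  so.L_le_I.trans (inf_le_right.trans (by
    have h1 := so.BS 1 (one_mem _)
    rwa [map_one, one_smul] at h1))

theorem comm_le_L {A : Subgroup G} (hA : A ≤ (S : Subgroup G)) :
    ⁅zl (S : Subgroup G) P₁, A⁆ ≤ zl (S : Subgroup G) P₁ := by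
  rw [commutator_le]
  intro l hl a ha
  rw [commutatorElement_def]
  have h1 := (mem_normalizer_iff.1 (so.PL (so.SP₁ (hA ha))) l⁻¹).1 (inv_mem hl)
  have h2 : l * a * l⁻¹ * a⁻¹ = l * (a * l⁻¹ * a⁻¹) := by group
  rw [h2]
  exact mul_mem hl h1

theorem RR_le_L : RR (S : Subgroup G) P₁ (NOne.Flat.WW V F) ≤ zl (S : Subgroup G) P₁ := by
  unfold RR
  refine iSup_le fun s => ?_
  refine (conj_le_iff.2 (so.comm_le_L so.WS)).trans ?_
  exact (so.conj_L (so.SP₁ s.2)).le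

theorem S_norm_RR : (S : Subgroup G) ≤ normalizer (RR (S : Subgroup G) P₁ (NOne.Flat.WW V F) : Set G) := by
  have key : ∀ s ∈ (S : Subgroup G), MulAut.conj s • RR (S : Subgroup G) P₁ (NOne.Flat.WW V F) =
      RR (S : Subgroup G) P₁ (NOne.Flat.WW V F) := by
    intro s hs
    rw [RR_eq_Cl, Trans.conj_Cl (le_normalizer hs), Trans.Cl_conj hs]
  intro s hs
  rw [mem_normalizer_iff]
  intro x
  have h1 := key s hs
  constructor
  · intro hx
    have h2 := smul_mem_pointwise_smul x (MulAut.conj s) _ hx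
    rwa [h1] at h2
  · intro hx
    have h2 : s * x * s⁻¹ ∈ MulAut.conj s • RR (S : Subgroup G) P₁ (NOne.Flat.WW V F) := by rwa [h1]
    rw [mem_conj] at h2
    have e : s⁻¹ * (s * x * s⁻¹) * s = x := by group
    rwa [e] at h2

/-- `Z ∩ R₁ ≠ 1` -/
theorem exists_mem_RR : ∃ z ∈ zc (S : Subgroup G), z ≠ 1 ∧ z ∈ RR (S : Subgroup G) P₁ (NOne.Flat.WW V F) := by
  have hne : RR (S : Subgroup G) P₁ (NOne.Flat.WW V F) ≠ ⊥ := by
    intro h0
    apply so.mov
    have h1 : ⁅zl (S : Subgroup G) P₁, NOne.Flat.WW V F⁆ ≤ RR (S : Subgroup G) P₁ (NOne.Flat.WW V F) := by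
      have h2 := le_iSup (fun s : (S : Subgroup G) => MulAut.conj (s : G) • ⁅zl (S : Subgroup G) P₁, NOne.Flat.WW V F⁆) 1
      rwa [OneMemClass.coe_one, map_one, one_smul] at h2
    rw [h0, le_bot_iff, commutator_eq_bot_iff_le_centralizer] at h1
    exact comm_symm h1
  obtain ⟨x, hx, hx1, hxS⟩ := NoFF.LinesPlug.exists_fixed S.isPGroup' (so.RR_le_L.trans so.L_le_S) so.S_norm_RR hne
  refine ⟨x, ChoiceBase.mem_zc.2 ⟨so.L_le_S (so.RR_le_L hx), ?_, hxS⟩, hx1, hx⟩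
  exact so.toHyp.sq x (so.L_le_V (so.RR_le_L hx))

/-- **The end**, KEY, `q₀ ≥ 4`: `N_P(S)` transitive on `Z#`, (ii) + (iii) for the `h` with `[L₁^h, W] = [L₁, W^h] = 1`. -/
theorem false_of (hk : Key V F B) (nt : NT (S : Subgroup G) P₁ q)
    (htr : ∀ x ∈ zc (S : Subgroup G), x ≠ 1 → ∀ y ∈ zc (S : Subgroup G), y ≠ 1 →
      ∃ h ∈ P, h ∈ normalizer ((S : Subgroup G) : Set G) ∧ h * x * h⁻¹ = y)
    (hC : zc (S : Subgroup G) ⊓ centralizer (P₁ : Set G) ≠ ⊥)
    (h2 : ∀ h ∈ P, h ∈ normalizer ((S : Subgroup G) : Set G) →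
      NOne.Flat.WW V F ≤ centralizer ((MulAut.conj h • zl (S : Subgroup G) P₁ : Subgroup G) : Set G) →
      MulAut.conj h • NOne.Flat.WW V F ≤ centralizer (zl (S : Subgroup G) P₁ : Set G) →
      zc (S : Subgroup G) ⊓ MulAut.conj h • RR (S : Subgroup G) P₁ (NOne.Flat.WW V F) ≤
        centralizer (P₁ : Set G)) : False := by
  have hdis : RR (S : Subgroup G) P₁ (NOne.Flat.WW V F) ⊓ (zc (S : Subgroup G) ⊓ centralizer (P₁ : Set G)) = ⊥ := by
    rw [eq_bot_iff, ← nt.dis _ (nt.min (so.ka_one hk)) (so.ka_one hk).const]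
    refine inf_le_inf_left _ ?_
    exact fun x hx => ⟨MinSimple.VModule.zc_le_zl _ _ hx.1,
      centralizer_le (MinSimple.VModule.oddGen_le P₁) hx.2⟩
  obtain ⟨z, hz, hz1, hzR⟩ := so.exists_mem_RR
  obtain ⟨⟨c, hc⟩, hc1⟩ := Subgroup.ne_bot_iff_exists_ne_one.1 hC
  have hc1 : c ≠ 1 := fun h => hc1 (Subtype.ext h)
  have hzc1 : z * c ≠ 1 := by
    intro h0
    have h3 : c = z⁻¹ := by rw [← mul_left_cancel_iff (a := z), h0, mul_inv_cancel]
    have h4 : c ∈ (⊥ : Subgroup G) := by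
      rw [← hdis]
      have h5 : z⁻¹ ∈ RR (S : Subgroup G) P₁ (NOne.Flat.WW V F) := inv_mem hzR
      rw [← h3] at h5
      exact ⟨h5, hc⟩
    exact hc1 (mem_bot.1 h4)
  obtain ⟨h, hh, hN, e⟩ := htr z hz hz1 (z * c) (mul_mem hz hc.1) hzc1
  have hmem : z * c ∈ MulAut.conj h • RR (S : Subgroup G) P₁ (NOne.Flat.WW V F) := by
    rw [← e]
    exact smul_mem_pointwise_smul z (MulAut.conj h) _ hzR
  have key : MulAut.conj h • RR (S : Subgroup G) P₁ (NOne.Flat.WW V F) =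
      RR (S : Subgroup G) P₁ (NOne.Flat.WW V F) ∨ zc (S : Subgroup G) ⊓
      MulAut.conj h • RR (S : Subgroup G) P₁ (NOne.Flat.WW V F) ≤ centralizer (P₁ : Set G) := by
    by_cases h3 : NOne.Flat.WW V F ≤ centralizer ((MulAut.conj h • zl (S : Subgroup G) P₁ : Subgroup G) : Set G)
    · by_cases h4 : MulAut.conj h • NOne.Flat.WW V F ≤ centralizer (zl (S : Subgroup G) P₁ : Set G)
      · exact Or.inr (h2 h hh hN h3 h4)
      · exact Or.inl (so.conj_RR' hk nt hh hN h4)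
    · exact Or.inl (so.conj_RR hk nt hh hN h3)
  rcases key with h3 | h3
  · rw [h3] at hmem
    have h4 : c ∈ RR (S : Subgroup G) P₁ (NOne.Flat.WW V F) := by
      have h5 := mul_mem (inv_mem hzR) hmem
      rwa [inv_mul_cancel_left] at h5
    have h6 : c ∈ (⊥ : Subgroup G) := by
      rw [← hdis]
      exact ⟨h4, hc⟩
    exact hc1 (mem_bot.1 h6)
  · have h4 := h3 ⟨mul_mem hz hc.1, hmem⟩
    have h5 : z ∈ centralizer (P₁ : Set G) := by
      have h6 := mul_mem h4 (inv_mem hc.2)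
      rwa [mul_inv_cancel_right] at h6
    have h6 : z ∈ (⊥ : Subgroup G) := by
      rw [← hdis]
      exact ⟨hzR, hz, h5⟩
    exact hz1 (mem_bot.1 h6)

end SO

end Cfsg.Agent.Omega.NO3S.SOne

end

end

-- merged: Cfsg.Agent.Omega.NO3S.SOne.PhiL
section

/-!
# THEOREM S1 (helper335 #21537 / #21629), the phi lemma

`exists_off` : `|W : B₁| ≥ 4`: some `x ∈ W` is outside `B₁`, `w B₁`, `s B₁`;
`phi` : the relation `v' v'^{-w} = v v^{-s} f` is impossible.
-/

set_option autoImplicit false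
set_option linter.unusedVariables false

namespace Cfsg.Agent.Omega.NO3S.SOne

open Subgroup

variable {G : Type*} [Group G]

/-- three cosets do not cover `W` -/
theorem exists_off {W B : Subgroup G} (h4 : 4 ≤ B.relIndex W) {w s : G} (hw : w ∈ W) (hs : s ∈ W) :
    ∃ x ∈ W, x⁻¹ ∉ B ∧ x⁻¹ * w ∉ B ∧ x⁻¹ * s ∉ B := by
  classical
  by_contra hcon
  push Not at hcon
  have key : (Set.univ : Set (W ⧸ B.subgroupOf W)) ⊆
      {((1 : W) : W ⧸ B.subgroupOf W), ((⟨w, hw⟩ : W) : W ⧸ B.subgroupOf W), ((⟨s, hs⟩ : W) : W ⧸ B.subgroupOf W)} := by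
    rintro q -
    obtain ⟨x, rfl⟩ := QuotientGroup.mk_surjective q
    rw [Set.mem_insert_iff, Set.mem_insert_iff, Set.mem_singleton_iff, QuotientGroup.eq, QuotientGroup.eq,
      QuotientGroup.eq, mem_subgroupOf, mem_subgroupOf, mem_subgroupOf]
    change (x : G)⁻¹ * 1 ∈ B ∨ (x : G)⁻¹ * w ∈ B ∨ (x : G)⁻¹ * s ∈ B
    rw [mul_one]
    by_cases h1 : (x : G)⁻¹ ∈ B
    · exact Or.inl h1
    · by_cases h2 : (x : G)⁻¹ * w ∈ B
      · exact Or.inr (Or.inl h2)
      · exact Or.inr (Or.inr (hcon x x.2 h1 h2))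
  have h1 : B.relIndex W ≤ 3 := by
    rw [relIndex, index, ← Set.ncard_univ]
    refine (Set.ncard_le_ncard key (Set.toFinite _)).trans ?_
    refine (Set.ncard_insert_le _ _).trans ?_
    refine (Nat.succ_le_succ (Set.ncard_insert_le _ _)).trans ?_
    rw [Set.ncard_singleton]
  omega

/-- **The phi lemma.** -/
theorem phi {Λ A L W B₁ : Subgroup G} (comm : ∀ a ∈ Λ, ∀ b ∈ Λ, a * b = b * a) (hA : A ≤ Λ) (hL : L ≤ Λ)
    (hW : ∀ w ∈ W, ∀ l ∈ Λ, w * l * w⁻¹ ∈ Λ) (hB : B₁ ≤ W)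
    (h2 : ∀ v ∈ L, ∀ y ∈ W, y ∉ B₁ → y * v * y⁻¹ ∈ A)
    (h3 : ∀ v ∈ L, ∀ b ∈ B₁, b * v * b⁻¹ * v⁻¹ ∈ A) (h4 : 4 ≤ B₁.relIndex W) {v v' w s f : G}
    (hv : v ∈ L) (hv' : v' ∈ L) (hvA : v' ∉ A) (hne : v' * v⁻¹ ∉ A) (hw : w ∈ W) (hwB : w ∉ B₁) (hs : s ∈ W)
    (hf : f ∈ Λ) (hfW : ∀ x ∈ W, x * f * x⁻¹ = f)
    (rel : v' * (w * v'⁻¹ * w⁻¹) = v * (s * v⁻¹ * s⁻¹) * f) : False := by
  have cj : ∀ y ∈ W, y ∉ B₁ → ∀ l ∈ L, y * l⁻¹ * y⁻¹ ∈ A := fun y hy hyB l hl => h2 _ (L.inv_mem hl) y hy hyB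
  -- `f ∈ A`
  have hfA : f ∈ A := by
    obtain ⟨x, hx, x1, x2, x3⟩ := exists_off h4 hw hs
    have hxi := W.inv_mem hx
    have e1 : x⁻¹ * v' * x⁻¹⁻¹ ∈ A := h2 v' hv' _ hxi x1
    have e2 : x⁻¹ * v * x⁻¹⁻¹ ∈ A := h2 v hv _ hxi x1
    have e3 : (x⁻¹ * w) * v'⁻¹ * (x⁻¹ * w)⁻¹ ∈ A := cj _ (W.mul_mem hxi hw) x2 v' hv'
    have e4 : (x⁻¹ * s) * v⁻¹ * (x⁻¹ * s)⁻¹ ∈ A := cj _ (W.mul_mem hxi hs) x3 v hv
    have e5 : (x⁻¹ * v' * x⁻¹⁻¹) * ((x⁻¹ * w) * v'⁻¹ * (x⁻¹ * w)⁻¹) =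
        (x⁻¹ * v * x⁻¹⁻¹) * ((x⁻¹ * s) * v⁻¹ * (x⁻¹ * s)⁻¹) * f := by
      calc (x⁻¹ * v' * x⁻¹⁻¹) * ((x⁻¹ * w) * v'⁻¹ * (x⁻¹ * w)⁻¹)
          = x⁻¹ * (v' * (w * v'⁻¹ * w⁻¹)) * x⁻¹⁻¹ := by group
        _ = x⁻¹ * (v * (s * v⁻¹ * s⁻¹) * f) * x⁻¹⁻¹ := by rw [rel]
        _ = (x⁻¹ * v * x⁻¹⁻¹) * ((x⁻¹ * s) * v⁻¹ * (x⁻¹ * s)⁻¹) * (x⁻¹ * f * x⁻¹⁻¹) := by group
        _ = _ := by rw [hfW _ hxi]
    have e6 : f = ((x⁻¹ * v * x⁻¹⁻¹) * ((x⁻¹ * s) * v⁻¹ * (x⁻¹ * s)⁻¹))⁻¹ *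
        ((x⁻¹ * v' * x⁻¹⁻¹) * ((x⁻¹ * w) * v'⁻¹ * (x⁻¹ * w)⁻¹)) := by rw [e5, inv_mul_cancel_left]
    rw [e6]
    exact A.mul_mem (A.inv_mem (A.mul_mem e2 e4)) (A.mul_mem e1 e3)
  have e1 : w * v'⁻¹ * w⁻¹ ∈ A := cj w hw hwB v' hv'
  by_cases hsB : s ∈ B₁
  · -- `v (s v⁻¹ s⁻¹) ∈ A`
    have e2 : s * v⁻¹ * s⁻¹ * v⁻¹⁻¹ ∈ A := h3 _ (L.inv_mem hv) s hsB
    have e3 : v * (s * v⁻¹ * s⁻¹) = s * v⁻¹ * s⁻¹ * v⁻¹⁻¹ := by
      rw [inv_inv]
      exact comm v (hL hv) _ (hW s hs _ (Λ.inv_mem (hL hv)))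
    apply hvA
    have e4 : v' = v * (s * v⁻¹ * s⁻¹) * f * (w * v'⁻¹ * w⁻¹)⁻¹ := by rw [← rel, mul_inv_cancel_right]
    rw [e4, e3]
    exact A.mul_mem (A.mul_mem e2 hfA) (A.inv_mem e1)
  · have e2 : s * v⁻¹ * s⁻¹ ∈ A := cj s hs hsB v hv
    apply hne
    have e4 : v' = v * (s * v⁻¹ * s⁻¹) * f * (w * v'⁻¹ * w⁻¹)⁻¹ := by rw [← rel, mul_inv_cancel_right]
    have e5 : (s * v⁻¹ * s⁻¹) * f * (w * v'⁻¹ * w⁻¹)⁻¹ ∈ A := A.mul_mem (A.mul_mem e2 hfA) (A.inv_mem e1)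
    have e6 : v' * v⁻¹ = (s * v⁻¹ * s⁻¹) * f * (w * v'⁻¹ * w⁻¹)⁻¹ := by
      have e7 : v' = v * ((s * v⁻¹ * s⁻¹) * f * (w * v'⁻¹ * w⁻¹)⁻¹) := by
        rw [← mul_assoc, ← mul_assoc]
        exact e4
      have e8 := comm v (hL hv) _ (hA e5)
      rw [e8] at e7
      calc v' * v⁻¹ = ((s * v⁻¹ * s⁻¹) * f * (w * v'⁻¹ * w⁻¹)⁻¹ * v) * v⁻¹ := by rw [← e7]
        _ = _ := by rw [mul_inv_cancel_right]
    rw [e6]
    exact e5

end Cfsg.Agent.Omega.NO3S.SOne

end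

-- merged: Cfsg.Agent.Mrg.Omega.NO3S.SOne.Bad
section

section


/-!
# GammaFF, (S1) (#21629), (iii): bad lines, `q₀ ≥ 4`

`h ∈ N_P(S)`, `L₂ = L₁^h`, `W₂ = W^h`, `W` centralises `L₂`, `W₂` centralises `L₁`, `g ∈ P₁` generic: `L₂^g ≤ E`.
-/

set_option autoImplicit false
set_option linter.unusedSectionVars false

namespace Cfsg.Agent.Omega.NO3S.SOne

open Subgroup Cfsg Cfsg.Agent.ZN Cfsg.Agent.Omega.MinPar
open Cfsg.Agent.Omega.NOne.Flat (EE NN Cos card_mul_relIndex' conj_eq_of_norm conj_centralizer)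
open Cfsg.Agent.Omega.NOne.NearFF (c c_def)
open Cfsg.Agent.Omega.NoFF.Basic (conj_conj mem_conj conj_le_iff conj_le_centralizer comm_symm)
open Cfsg.Agent.Omega.FFThm (ElemM OffM NoOverM relIndex_le_iff)
open Cfsg.Agent.Omega.NOThreeL.NF (MinOffM)
open Cfsg.Agent.Omega.NO3S.Pas (Key)
open scoped Pointwise

universe u

variable {G : Type u} [Group G] [Finite G]

/-- A semiregular offender is a minimal offender. -/
theorem minOff_of_semi {L A T H : Subgroup G} (no : NoOverM L H) (hAT : A ≤ T) (hTH : T ≤ H) (off : OffM L A)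
    (semi : ∀ r ∈ L, r ∉ centralizer (A : Set G) → ∀ a ∈ A, a * r = r * a → a ∈ centralizer (L : Set G)) :
    MinOffM L T A where
  le := hAT
  off := off
  min := fun B' hB hoff => by
    have h1 := relIndex_le_iff.1 (no A (hAT.trans hTH) off.toElemM)
    have h2 := relIndex_le_iff.1 hoff.le
    have h3 : centralizer (B' : Set G) ⊓ L ≤ centralizer (A : Set G) := by
      rintro r ⟨hrB, hrL⟩
      by_contra hr
      refine hoff.ne fun b hb => semi r hrL hr b (hB hb) ?_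
      exact mem_centralizer_iff.1 hrB b hb
    have h4 : (centralizer (A : Set G)).relIndex L ≤ (centralizer (B' : Set G)).relIndex L := by
      rw [← inf_relIndex_right (centralizer (B' : Set G)) L]
      exact relIndex_le_of_le_left h3 index_ne_zero_of_finite
    exact (h1.trans h4).trans h2


theorem conj_le_normalizer {K L : Subgroup G} (h : K ≤ normalizer (L : Set G)) (g : G) :
    MulAut.conj g • K ≤ normalizer ((MulAut.conj g • L : Subgroup G) : Set G) := by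
  refine le_normalizer_of fun k hk x hx => ?_
  rw [mem_conj] at hk hx ⊢
  have e : g⁻¹ * (k * x * k⁻¹) * g = g⁻¹ * k * g * (g⁻¹ * x * g) * (g⁻¹ * k * g)⁻¹ := by group
  rw [e]
  exact (mem_normalizer_iff.1 (h hk) _).1 hx

variable {S : Sylow 2 G} {V F B P P₁ : Subgroup G}

/-- `⁅L₁^u, W^t⁆ = ⁅L₁, W⁆^t` if `W^t ≤ S^u` moves `L₁^u`. -/
theorem SO.comm_line (so : SO S V F B P P₁) (hk : Key V F B) {t u : G} (ht : t ∈ P ⊔ P₁) (hu : u ∈ P ⊔ P₁)
    (hle : MulAut.conj t • NOne.Flat.WW V F ≤ MulAut.conj u • (S : Subgroup G))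
    (hm : ¬ MulAut.conj t • NOne.Flat.WW V F ≤
      centralizer ((MulAut.conj u • zl (S : Subgroup G) P₁ : Subgroup G) : Set G)) :
    ⁅MulAut.conj u • zl (S : Subgroup G) P₁, MulAut.conj t • NOne.Flat.WW V F⁆ =
      MulAut.conj t • ⁅zl (S : Subgroup G) P₁, NOne.Flat.WW V F⁆ := by
  have htu : t⁻¹ * u ∈ P ⊔ P₁ := mul_mem (inv_mem ht) hu
  have h1 : NOne.Flat.WW V F ≤ MulAut.conj (t⁻¹ * u) • (S : Subgroup G) := by
    rw [← conj_conj, ← conj_le_iff']
    exact hle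
  have h2 := so.line_le_I htu h1
  have h3 : ¬ NOne.Flat.WW V F ≤ centralizer ((MulAut.conj (t⁻¹ * u) • zl (S : Subgroup G) P₁ : Subgroup G) : Set G) := by
    intro h4
    apply hm
    have h5 := conj_le_centralizer (g := t) h4
    rwa [conj_conj, mul_inv_cancel_left] at h5
  have h4 := so.comm_eq hk h2 so.L_le_I h3 so.mov
  rw [← h4, conj_commutator, conj_conj, mul_inv_cancel_left]

theorem SO.S_norm_line (so : SO S V F B P P₁) {h : G} (hN : h ∈ normalizer ((S : Subgroup G) : Set G)) :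
    (S : Subgroup G) ≤ normalizer ((MulAut.conj h • zl (S : Subgroup G) P₁ : Subgroup G) : Set G) := by
  have h1 := conj_le_normalizer (so.SP₁.trans so.PL) h
  rwa [conj_eq_of_norm hN] at h1

/-- **(iii)** -/
theorem SO.line_good (so : SO S V F B P P₁) (hk : Key V F B) {q : ℕ} (nt : NT (S : Subgroup G) P₁ q) {h g : G} (hh : h ∈ P)
    (hN : h ∈ normalizer ((S : Subgroup G) : Set G)) (hg : Gen (S : Subgroup G) P₁ (NOne.Flat.WW V F) g)
    (h1 : NOne.Flat.WW V F ≤ centralizer ((MulAut.conj h • zl (S : Subgroup G) P₁ : Subgroup G) : Set G))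
    (h2 : MulAut.conj h • NOne.Flat.WW V F ≤ centralizer (zl (S : Subgroup G) P₁ : Set G)) :
    MulAut.conj (g * h) • zl (S : Subgroup G) P₁ ≤ EE V F := by
  by_contra hbad
  set W : Subgroup G := NOne.Flat.WW V F with hW
  set L : Subgroup G := zl (S : Subgroup G) P₁ with hL
  have hS : MulAut.conj h • (S : Subgroup G) = S := conj_eq_of_norm hN
  have hhY : h ∈ P ⊔ P₁ := (le_sup_left : P ≤ P ⊔ P₁) hh
  have hgY : g ∈ P ⊔ P₁ := (le_sup_right : P₁ ≤ P ⊔ P₁) hg.mem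
  have huY : g * h ∈ P ⊔ P₁ := mul_mem hgY hhY
  have hWY : W ≤ P ⊔ P₁ := so.WS.trans so.SY
  have hPL : P₁ ≤ normalizer (L : Set G) := so.PL
  have hLV : L ≤ V := so.L_le_V
  have hT : MulAut.conj (g * h) • (S : Subgroup G) = MulAut.conj g • (S : Subgroup G) := by rw [← conj_conj, hS]
  obtain ⟨u, hu⟩ : ∃ u, u = g * h := ⟨_, rfl⟩
  have hd : MulAut.conj u • L = MulAut.conj g • (MulAut.conj h • L) := by rw [hu, conj_conj]
  rw [← hu] at hbad huY hT
  obtain ⟨U, hU⟩ : ∃ U, U = MulAut.conj u • L := ⟨_, rfl⟩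
  rw [← hU] at hbad hd
  have hUV : U ≤ V := by rw [hU]; exact so.line_le_V huY
  have hTU : MulAut.conj u • (S : Subgroup G) ≤ normalizer (U : Set G) := by
    rw [hU]; exact conj_le_normalizer (so.SP₁.trans hPL) u
  have hBT : B ≤ MulAut.conj u • (S : Subgroup G) := by rw [hT]; exact so.BS g hg.mem
  have hBU : B ≤ normalizer (U : Set G) := hBT.trans hTU
  have hI : ¬ V ⊓ B ≤ F := fun hle => so.mov (by
    intro w hw
    rw [mem_centralizer_iff]
    exact fun l hl => NOne.Flat.Hyp.F_comm (hle (so.L_le_I hl)) (NOne.Flat.Hyp.W_le_X hw))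
  have hQc : o2 P₁ ≤ centralizer (L : Set G) := by
    rw [← so.o2_eq]; exact inf_le_right
  have hQS : o2 P₁ ≤ (S : Subgroup G) := so.hP₁.isLoc.o2_le S
  have hQn : ∀ p ∈ P₁, MulAut.conj p • o2 P₁ = o2 P₁ := fun p hp =>
    conj_eq_of_norm (MinSimple.VModule.le_normalizer_o2 P₁ hp)
  have hQT : o2 P₁ ≤ MulAut.conj u • (S : Subgroup G) := by
    rw [hT, ← hQn g hg.mem]
    exact conj_le_iff.2 hQS
  have hρL : ⁅L, W⁆ ≤ L := by
    rw [commutator_le]
    intro l hl t ht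
    rw [commutatorElement_def, ← c_def]
    exact NOThreeL.Low.Key.c_mem_left hl (hPL (so.SP₁ (so.WS ht)))
  -- *dis*
  have hdis : U ⊓ ⁅L, W⁆ = ⊥ := by
    rw [eq_bot_iff]
    rintro x ⟨hxU, hxρ⟩
    rw [mem_bot]
    have hx1 : g⁻¹ * x * g ∈ MulAut.conj h • L := by
      rw [hd] at hxU
      exact mem_conj.1 hxU
    have hx2 : g⁻¹ * x * g ∈ L := by
      have h3 := (mem_normalizer_iff.1 (hPL (inv_mem hg.mem)) x).1 (hρL hxρ)
      rwa [inv_inv] at h3
    have e : g * (g⁻¹ * x * g) * g⁻¹ = x := by group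
    have h3 := hg.dis (g⁻¹ * x * g) hx2 (fun s hs => by
      have h4 := conj_le_centralizer (g := s) h1
      rw [conj_eq_of_norm (so.S_norm_line hN hs)] at h4
      exact h4.trans (centralizer_le (Set.singleton_subset_iff.2 hx1))) (by rw [e]; exact hxρ)
    rw [← e, h3, mul_one, mul_inv_cancel]
  have hEB : ∀ e ∈ EE V F, ∀ b ∈ B, c e b ∈ ⁅L, W⁆ := fun e he b hb =>
    hk.mem_EB so.toBH so.L_le_I so.mov he hb
  obtain ⟨o1, o2', o3, o4⟩ := Pas.off_d so.toBH hUV hbad hBU hI hEB hdis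
  -- `B^(u⁻¹)`
  have hB'S : MulAut.conj u⁻¹ • B ≤ (S : Subgroup G) := le_conj_iff.1 hBT
  have hUL : MulAut.conj u⁻¹ • U = L := by rw [hU, conj_inv_smul]
  have offU : OffM U B := ⟨Pas.elem_d so.toBH hUV, o1, relIndex_le_iff.2 (o2'.trans (o3.trans o4))⟩
  have offL : OffM L (MulAut.conj u⁻¹ • B) := by
    have h3 := offM_conj offU u⁻¹
    rwa [hUL] at h3
  have e1 : (centralizer (L : Set G)).relIndex (MulAut.conj u⁻¹ • B : Subgroup G) =
      (centralizer (U : Set G)).relIndex B := by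
    rw [← hUL, ← conj_centralizer, relIndex_pointwise_smul]
  have e2 : (centralizer ((MulAut.conj u⁻¹ • B : Subgroup G) : Set G)).relIndex L =
      (centralizer (B : Set G)).relIndex U := by
    rw [← hUL, ← conj_centralizer, relIndex_pointwise_smul]
  have no : (centralizer (U : Set G)).relIndex B ≤ (centralizer (B : Set G)).relIndex U := by
    rw [← e1, ← e2]
    exact relIndex_le_iff.1 (nt.no _ (hB'S.trans so.SP₁) offL.toElemM)
  obtain ⟨b₀, hb₀, hb₀N⟩ := so.toBH.exists_not_mem_NN hI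
  have hCB : ∀ x ∈ U, (x ∈ centralizer (B : Set G) ↔ x ∈ EE V F) := by
    intro x hx
    constructor
    · intro hxB
      by_contra hxE
      refine hb₀N (so.toBH.mem_NN_of_c (hUV hx) hxE hb₀ ?_)
      rw [NOThreeL.Low.Key.c_eq_one' (mem_centralizer_iff.1 hxB b₀ hb₀).symm]
      exact one_mem _
    · intro hxE
      rw [mem_centralizer_iff]
      intro b hb
      have h3 : c x b ∈ U ⊓ ⁅L, W⁆ := ⟨NOThreeL.Low.Key.c_mem_left hx (hBU hb), hEB x hxE b hb⟩
      rw [hdis, mem_bot] at h3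
      exact (NOThreeL.Low.Key.comm_of_c h3).symm
  obtain ⟨v₀, hv₀, hv₀E⟩ := SetLike.not_le_iff_exists.1 hbad
  have hNN : NN V F ⊓ B ≤ centralizer (U : Set G) ⊓ B := by
    have h3 : centralizer (U : Set G) ⊓ B ≤ NN V F ⊓ B := by
      rintro b ⟨hb1, hb2⟩
      refine ⟨so.toBH.mem_NN_of_c (hUV hv₀) hv₀E hb2 ?_, hb2⟩
      rw [NOThreeL.Low.Key.c_eq_one' (mem_centralizer_iff.1 hb1 v₀ hv₀)]
      exact one_mem _
    have h4 : (centralizer (U : Set G) ⊓ B).relIndex B = (NN V F ⊓ B).relIndex B := by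
      rw [inf_relIndex_right, inf_relIndex_right, so.toBH.relIndex_B]
      exact le_antisymm (no.trans (o2'.trans o3)) o4
    have h5 := card_mul_relIndex' (inf_le_right : centralizer (U : Set G) ⊓ B ≤ B)
    have h6 := card_mul_relIndex' (inf_le_right : NN V F ⊓ B ≤ B)
    rw [h4, ← h6] at h5
    have h7 : 0 < (NN V F ⊓ B).relIndex B := Nat.pos_of_ne_zero index_ne_zero_of_finite
    exact (Subgroup.eq_of_le_of_card_ge h3 (Nat.eq_of_mul_eq_mul_right h7 h5).ge).ge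
  have hmB : MinOffM L (S : Subgroup G) (MulAut.conj u⁻¹ • B) := by
    refine minOff_of_semi nt.no hB'S so.SP₁ offL fun r hr hrc b hb hbr => ?_
    have hr' : u * r * u⁻¹ ∈ U := by rw [hU]; exact NOne.Frame.conj_mem hr
    have hb' : u * b * u⁻¹ ∈ B := by
      have h3 := mem_conj.1 hb
      rwa [inv_inv] at h3
    have hrE : u * r * u⁻¹ ∉ EE V F := by
      rw [← hCB _ hr']
      intro h3
      apply hrc
      rw [← conj_centralizer, mem_conj, inv_inv]
      exact h3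
    have h3 : c (u * r * u⁻¹) (u * b * u⁻¹) = 1 := by
      have e : c (u * r * u⁻¹) (u * b * u⁻¹) = u * c r b * u⁻¹ := by rw [c_def, c_def]; group
      rw [e, NOThreeL.Low.Key.c_eq_one' hbr.symm, mul_one, mul_inv_cancel]
    have h4 := so.toBH.mem_NN_of_c (hUV hr') hrE hb' (by rw [h3]; exact one_mem _)
    have h5 : u * b * u⁻¹ ∈ centralizer (U : Set G) := (hNN ⟨h4, hb'⟩).1
    rw [hU, ← conj_centralizer, mem_conj] at h5
    have e : u⁻¹ * (u * b * u⁻¹) * u = b := by group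
    rwa [e] at h5
  have hmW : MinOffM L (S : Subgroup G) W := nt.min (so.ka_one hk)
  have hB_idx : (centralizer (U : Set G)).relIndex B = q := by rw [← e1]; exact nt.idx _ hmB
  have hU_idx : q ≤ (EE V F).relIndex U := by
    rw [← nt.idx' _ hmB, e2]
    exact o2'
  obtain ⟨s, hs, hcls⟩ := nt.cls W _ hmW hmB
  obtain ⟨W', hW'⟩ : ∃ W', W' = MulAut.conj (u * s) • W := ⟨_, rfl⟩
  have husY : u * s ∈ P ⊔ P₁ := mul_mem huY (so.SY hs)
  -- `W' ≤ Q`
  have hW'Q : W' ≤ o2 P₁ := by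
    have h3 : MulAut.conj h • W ≤ o2 P₁ := by
      rw [← so.o2_eq]
      refine le_inf ?_ h2
      rw [← hS]
      exact conj_le_iff.2 so.WS
    have hs' : h * s * h⁻¹ ∈ (S : Subgroup G) := by
      have h4 : h * s * h⁻¹ ∈ MulAut.conj h • (S : Subgroup G) := NOne.Frame.conj_mem hs
      rwa [hS] at h4
    have hp : g * (h * s * h⁻¹) ∈ P₁ := mul_mem hg.mem (so.SP₁ hs')
    have e : u * s = g * (h * s * h⁻¹) * h := by rw [hu]; group
    rw [hW', e, ← conj_conj, ← hQn _ hp]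
    exact conj_le_iff.2 h3
  have hcQ : MulAut.conj u • o2 P₁ ≤ centralizer (U : Set G) := by
    rw [hU]; exact conj_le_centralizer hQc
  have hsup : B ⊔ MulAut.conj u • o2 P₁ = W' ⊔ MulAut.conj u • o2 P₁ := by
    have h3 := congrArg (fun X : Subgroup G => MulAut.conj u • X) hcls
    simp only [Subgroup.smul_sup] at h3
    rw [conj_smul_inv, hQn s (so.SP₁ hs), conj_conj, ← hW'] at h3
    exact h3
  have hBW : B ≤ W' ⊔ centralizer (U : Set G) :=
    (le_sup_left.trans hsup.le).trans (sup_le_sup_left hcQ _)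
  have hWB : W' ≤ B ⊔ centralizer (U : Set G) :=
    (le_sup_left.trans hsup.ge).trans (sup_le_sup_left hcQ _)
  have hcW : ∀ x ∈ U, (x ∈ centralizer (W' : Set G) ↔ x ∈ EE V F) := by
    intro x hx
    rw [← hCB x hx]
    have hxc : centralizer (U : Set G) ≤ centralizer ({x} : Set G) := centralizer_le (Set.singleton_subset_iff.2 hx)
    have key : ∀ A : Subgroup G, x ∈ centralizer (A : Set G) ↔ A ≤ centralizer ({x} : Set G) := by
      intro A
      rw [mem_centralizer_iff]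
      exact ⟨fun h3 a ha => mem_centralizer_singleton_iff.2 (h3 a ha), fun h3 a ha =>
        mem_centralizer_singleton_iff.1 (h3 ha)⟩
    rw [key, key]
    exact ⟨fun h3 => hBW.trans (sup_le h3 hxc), fun h3 => hWB.trans (sup_le h3 hxc)⟩
  have hW'U : W' ≤ normalizer (U : Set G) := (hW'Q.trans hQT).trans hTU
  have hW'm : ¬ W' ≤ centralizer (U : Set G) := by
    intro h3
    exact o1 (hBW.trans (sup_le h3 le_rfl))
  have hω : ⁅U, W'⁆ = MulAut.conj (u * s) • ⁅L, W⁆ := by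
    rw [hU, hW']
    rw [hU, hW'] at hW'm
    refine so.comm_line hk husY huY ?_ hW'm
    rw [← hW']
    exact hW'Q.trans hQT
  -- an element of `ω - F`
  obtain ⟨r, hrω, hrU, hrI, hrF⟩ : ∃ r ∈ ⁅U, W'⁆, r ∈ U ∧ r ∈ V ⊓ B ∧ r ∉ F := by
    have h3 : c v₀ b₀ ∉ F := fun h4 => hb₀N (so.toBH.mem_NN_of_c (hUV hv₀) hv₀E hb₀ h4)
    have h4 : c v₀ b₀ ∈ U := NOThreeL.Low.Key.c_mem_left hv₀ (hBU hb₀)
    refine ⟨c v₀ b₀, ?_, h4, so.toBH.c_memI (hUV hv₀) hb₀, h3⟩
    have hn : W' ≤ normalizer (centralizer (U : Set G) : Set G) := by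
      refine le_normalizer_of fun k hk' x hx => ?_
      rw [mem_centralizer_iff] at hx ⊢
      intro y hy
      have hy' : k⁻¹ * y * k ∈ U := by
        have h5 := (mem_normalizer_iff.1 (hW'U (inv_mem hk')) y).1 hy
        rwa [inv_inv] at h5
      have h5 := hx _ hy'
      calc y * (k * x * k⁻¹) = k * (k⁻¹ * y * k * x) * k⁻¹ := by group
        _ = k * (x * (k⁻¹ * y * k)) * k⁻¹ := by rw [h5]
        _ = k * x * k⁻¹ * y := by group
    obtain ⟨a, ha, w, hw, e⟩ := NO3S.Pas.mem_sup_of_norm (A := centralizer (U : Set G)) (B := W') hn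
      (by rw [sup_comm]; exact hBW hb₀)
    have h5 : c v₀ w ∈ U := NOThreeL.Low.Key.c_mem_left hv₀ (hW'U hw)
    have h6 : v₀ * a = a * v₀ := mem_centralizer_iff.1 ha v₀ hv₀
    have h7 : c v₀ w * a = a * c v₀ w := mem_centralizer_iff.1 ha _ h5
    have h8 : c v₀ b₀ = c v₀ w := by
      have e3 : c v₀ (a * w) = v₀ * a * (w * v₀⁻¹ * w⁻¹) * a⁻¹ := by rw [c_def]; group
      have e4 : a * v₀ * (w * v₀⁻¹ * w⁻¹) * a⁻¹ = a * c v₀ w * a⁻¹ := by rw [c_def]; group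
      rw [← e, e3, h6, e4, ← h7, mul_inv_cancel_right]
    rw [h8, c_def, ← commutatorElement_def]
    exact commutator_mem_commutator hv₀ hw
  -- `C_W(r) ≤ C(L)` for `r ∈ I - F`
  have hIL : F.relIndex (V ⊓ B) ≤ F.relIndex L := by
    have h3 : F.relIndex (V ⊓ B) ≤ q := by rw [← hB_idx]; exact o4
    have h4 : (centralizer (W : Set G)).relIndex L ≤ F.relIndex L :=
      relIndex_le_of_le_left (fun x hx => cent_of_F hx) index_ne_zero_of_finite
    rw [nt.idx' _ hmW] at h4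
    exact h3.trans h4
  have hcI : ∀ x ∈ V ⊓ B, x ∉ F → ∀ y ∈ W, y * x = x * y → y ∈ centralizer (L : Set G) := by
    intro x hx hxF y hy hyx
    have hcos : Cos id L F (V ⊓ B) F := ⟨fun u hu => so.L_le_I hu, fun _ _ _ _ => Iff.rfl⟩
    obtain ⟨l, hl, hlx⟩ := hcos.surj hIL hx
    change l⁻¹ * x ∈ F at hlx
    have hlc : l ∉ centralizer (W : Set G) := by
      intro h3
      have h4 : l ∈ V ⊓ centralizer (W : Set G) := ⟨hLV hl, h3⟩
      rw [so.cent_VW] at h4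
      apply hxF
      have e : x = l * (l⁻¹ * x) := by group
      rw [e]
      exact mul_mem h4 hlx
    refine nt.cent W hmW l hl hlc y hy ?_
    have h3 : l⁻¹ * x * y = y * (l⁻¹ * x) := NOne.Flat.Hyp.F_comm hlx (NOne.Flat.Hyp.W_le_X hy)
    have e : l = x * (l⁻¹ * x)⁻¹ := by group
    have h4 : y * (l⁻¹ * x)⁻¹ = (l⁻¹ * x)⁻¹ * y := by
      have h5 : (l⁻¹ * x)⁻¹ * (l⁻¹ * x * y) * (l⁻¹ * x)⁻¹ = (l⁻¹ * x)⁻¹ * (y * (l⁻¹ * x)) * (l⁻¹ * x)⁻¹ := by rw [h3]
      have e5 : (l⁻¹ * x)⁻¹ * (l⁻¹ * x * y) * (l⁻¹ * x)⁻¹ = y * (l⁻¹ * x)⁻¹ := by group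
      have e6 : (l⁻¹ * x)⁻¹ * (y * (l⁻¹ * x)) * (l⁻¹ * x)⁻¹ = (l⁻¹ * x)⁻¹ * y := by group
      rw [e5, e6] at h5
      exact h5
    calc y * l = y * (x * (l⁻¹ * x)⁻¹) := by rw [← e]
      _ = y * x * (l⁻¹ * x)⁻¹ := by group
      _ = x * y * (l⁻¹ * x)⁻¹ := by rw [hyx]
      _ = x * (y * (l⁻¹ * x)⁻¹) := by group
      _ = x * ((l⁻¹ * x)⁻¹ * y) := by rw [h4]
      _ = x * (l⁻¹ * x)⁻¹ * y := by group
      _ = l * y := by rw [← e]
  -- **(b)**
  have hb : ∀ y ∈ W, y ∉ centralizer (L : Set G) → MulAut.conj y • W' ≤ centralizer (U : Set G) := by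
    intro y hy hyc
    by_contra hcon
    have hyP : y ∈ P₁ := so.SP₁ (so.WS hy)
    have e : MulAut.conj y • W' = MulAut.conj (y * (u * s)) • W := by rw [hW', conj_conj]
    have hle : MulAut.conj y • W' ≤ MulAut.conj u • (S : Subgroup G) := by
      have h3 := conj_le_iff (g := y).2 hW'Q
      rw [hQn y hyP] at h3
      exact h3.trans hQT
    have h3 : ⁅U, MulAut.conj y • W'⁆ = MulAut.conj y • ⁅U, W'⁆ := by
      have h4 := so.comm_line hk (t := y * (u * s)) (mul_mem (hWY hy) husY) huY (by rw [← hW, ← e]; exact hle)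
        (by rw [← hW, ← e, ← hL, ← hU]; exact hcon)
      rw [← hW, ← e, ← hL, ← hU] at h4
      rw [h4, hω, conj_conj]
    have h4 : y * r * y⁻¹ ∈ U := by
      have h5 : y * r * y⁻¹ ∈ ⁅U, MulAut.conj y • W'⁆ := by
        rw [h3]
        exact NOne.Frame.conj_mem hrω
      have h6 : ⁅U, MulAut.conj y • W'⁆ ≤ U := by
        rw [commutator_le]
        intro l hl t ht
        rw [commutatorElement_def, ← c_def]
        exact NOThreeL.Low.Key.c_mem_left hl (hTU (hle ht))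
      exact h6 h5
    have h5 : c r y ∈ U ⊓ ⁅L, W⁆ := by
      refine mem_inf.2 ⟨?_, hk.mem so.toBH so.L_le_I so.mov hrI hy⟩
      have e5 : c r y = r * (y * r * y⁻¹)⁻¹ := by rw [c_def]; group
      rw [e5]
      exact mul_mem hrU (inv_mem h4)
    rw [hdis, mem_bot] at h5
    exact hyc (hcI r hrI hrF y hy (NOThreeL.Low.Key.comm_of_c h5).symm)
  -- `Λ`
  obtain ⟨Λ, hΛ⟩ : ∃ Λ : Subgroup G, Λ = ⨆ p : P₁, MulAut.conj (p : G) • (MulAut.conj h • L) := ⟨_, rfl⟩
  have hΛV : Λ ≤ V := by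
    rw [hΛ]
    refine iSup_le fun p => ?_
    rw [conj_conj]
    exact so.line_le_V (mul_mem ((le_sup_right : P₁ ≤ P ⊔ P₁) p.2) hhY)
  have hΛP : ∀ p ∈ P₁, ∀ l ∈ Λ, p * l * p⁻¹ ∈ Λ := by
    intro p hp
    have h3 : Λ ≤ MulAut.conj p⁻¹ • Λ := by
      conv_lhs => rw [hΛ]
      refine iSup_le fun p' => ?_
      rw [← conj_le_iff', conj_conj]
      rw [hΛ]
      exact le_iSup (fun p : P₁ => MulAut.conj (p : G) • (MulAut.conj h • L)) ⟨p * p', mul_mem hp p'.2⟩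
    intro l hl
    have h4 := mem_conj.1 (h3 hl)
    rwa [inv_inv] at h4
  have hUΛ : U ≤ Λ := by
    rw [hd, hΛ]
    exact le_iSup (fun p : P₁ => MulAut.conj (p : G) • (MulAut.conj h • L)) ⟨g, hg.mem⟩
  obtain ⟨v, hv, hvE, hvE', -⟩ := exists_off (W := U) (B := EE V F) (nt.four.trans hU_idx) hv₀ hv₀
  have hvE1 : v ∉ EE V F := fun h3 => hvE (inv_mem h3)
  obtain ⟨w, hw, hwc⟩ := SetLike.not_le_iff_exists.1 so.mov
  obtain ⟨t, ht, hf⟩ := so.toHyp.surj (hUV hv) hvE1 (so.c_memE (hUV hv₀) hw)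
  have hcv : c v t ∈ V := so.c_memV (hUV hv) ht
  have hcw : c v₀ w ∈ V := so.c_memV (hUV hv₀) hw
  have hfF : (c v t)⁻¹ * c v₀ w ∈ F := by
    have h3 := inv_mem hf
    have e : (c v t * (c v₀ w)⁻¹)⁻¹ = c v₀ w * (c v t)⁻¹ := by group
    rwa [e, so.V_comm hcw (inv_mem hcv)] at h3
  have hcΛ : ∀ x ∈ U, ∀ y ∈ W, c x y ∈ Λ := by
    intro x hx y hy
    have e : c x y = x * (y * x⁻¹ * y⁻¹) := by rw [c_def]; group
    rw [e]
    exact mul_mem (hUΛ hx) (hΛP y (so.SP₁ (so.WS hy)) _ (hUΛ (inv_mem hx)))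
  refine phi (Λ := Λ) (A := Λ ⊓ centralizer (W' : Set G)) (L := U) (W := W) (B₁ := W ⊓ centralizer (L : Set G))
    (fun a ha b hb' => so.V_comm (hΛV ha) (hΛV hb')) inf_le_left hUΛ
    (fun w hw l hl => hΛP w (so.SP₁ (so.WS hw)) l hl) inf_le_left ?_ ?_ ?_ (v := v) (v' := v₀) (w := w) (s := t)
    (f := (c v t)⁻¹ * c v₀ w) hv hv₀ ?_ ?_ hw (fun h3 => hwc h3.2) ht
    (mul_mem (inv_mem (hcΛ v hv t ht)) (hcΛ v₀ hv₀ w hw)) ?_ ?_
  · -- (h2)
    intro x hx y hy hyB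
    have hyc : y⁻¹ ∉ centralizer (L : Set G) := fun h3 => hyB ⟨hy, by simpa using inv_mem h3⟩
    have h3 := hb y⁻¹ (inv_mem hy) hyc
    refine mem_inf.2 ⟨hΛP y (so.SP₁ (so.WS hy)) x (hUΛ hx), ?_⟩
    rw [mem_centralizer_iff]
    intro k hk'
    have h4 : y⁻¹ * k * y ∈ MulAut.conj y⁻¹ • W' := by
      have h5 : y⁻¹ * k * y⁻¹⁻¹ ∈ MulAut.conj y⁻¹ • W' := NOne.Frame.conj_mem hk'
      rwa [inv_inv] at h5
    have h5 := mem_centralizer_iff.1 (h3 h4) x hx
    calc k * (y * x * y⁻¹) = y * (y⁻¹ * k * y * x) * y⁻¹ := by group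
      _ = y * (x * (y⁻¹ * k * y)) * y⁻¹ := by rw [h5]
      _ = y * x * y⁻¹ * k := by group
  · -- (h3)
    rintro x hx b ⟨hbW, hbc⟩
    have hbQ : b ∈ o2 P₁ := by
      rw [← so.o2_eq]
      exact ⟨so.WS hbW, hbc⟩
    have hbx : b * x * b⁻¹ ∈ U := (mem_normalizer_iff.1 (hTU (hQT hbQ)) x).1 hx
    have h3 : b * x * b⁻¹ * x⁻¹ ∈ U := mul_mem hbx (inv_mem hx)
    refine mem_inf.2 ⟨hUΛ h3, (hcW _ h3).2 ?_⟩
    have e : b * x * b⁻¹ * x⁻¹ = (c x b)⁻¹ := by rw [c_def]; group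
    rw [e]
    exact inv_mem (so.c_memE (hUV hx) hbW)
  · -- (h4)
    rw [inf_relIndex_left, nt.idx _ hmW]
    exact nt.four
  · exact fun h3 => hv₀E ((hcW v₀ hv₀).1 h3.2)
  · intro h3
    apply hvE'
    have h4 := (hcW _ (mul_mem hv₀ (inv_mem hv))).1 h3.2
    rwa [so.V_comm (hUV hv₀) (hUV (inv_mem hv))] at h4
  · intro x hx
    have h3 : (c v t)⁻¹ * c v₀ w * x = x * ((c v t)⁻¹ * c v₀ w) :=
      NOne.Flat.Hyp.F_comm hfF (NOne.Flat.Hyp.W_le_X hx)
    rw [← h3, mul_inv_cancel_right]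
  · have e3 : v₀ * (w * v₀⁻¹ * w⁻¹) = c v₀ w := by rw [c_def]; group
    have e4 : v * (t * v⁻¹ * t⁻¹) = c v t := by rw [c_def]; group
    rw [e3, e4, mul_inv_cancel_left]

end Cfsg.Agent.Omega.NO3S.SOne

end

section


/-!
# GammaFF, (S1) (#21629), the KEY case, `q₀ ≥ 4`

* `SO.false_of_NT` : (S1), KEY, `q₀ ≥ 4`: (i) = `SO.conj_RR`, (ii) = `SO.good`, (iii) = `SO.line_good`, the end = `SO.false_of`.
-/

set_option autoImplicit false
set_option linter.unusedSectionVars false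

namespace Cfsg.Agent.Omega.NO3S.SOne

open Subgroup Cfsg Cfsg.Agent.ZN Cfsg.Agent.Omega.MinPar
open Cfsg.Agent.Omega.NO3S.Pas (Key)
open scoped Pointwise

universe u

variable {G : Type u} [Group G] [Finite G] {S : Sylow 2 G} {V F B P P₁ : Subgroup G}

/-- **(S1), KEY, `q₀ ≥ 4`.** -/
theorem SO.false_of_NT (so : SO S V F B P P₁) (hk : Key V F B) {q : ℕ} (nt : NT (S : Subgroup G) P₁ q)
    (htr : ∀ x ∈ zc (S : Subgroup G), x ≠ 1 → ∀ y ∈ zc (S : Subgroup G), y ≠ 1 →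
      ∃ h ∈ P, h ∈ normalizer ((S : Subgroup G) : Set G) ∧ h * x * h⁻¹ = y)
    (hC : zc (S : Subgroup G) ⊓ centralizer (P₁ : Set G) ≠ ⊥) : False := by
  refine so.false_of hk nt htr hC fun h hh hN h1 h2 => ?_
  obtain ⟨g, hg⟩ := nt.gen _ (nt.min (so.ka_one hk)) (so.ka_one hk).const
  exact so.good hk hh hN hg h1 h2 (so.line_good hk nt hh hN hg h1 h2)

end Cfsg.Agent.Omega.NO3S.SOne

end

end

-- merged: Cfsg.Agent.Mrg.Omega.NO3S.SOne.NTGen
section

section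


/-!
# GammaFF, (S1) (#21629): the fields `gen` and `dis` of `NT` for natural modules with a radical

`M : NatKM F S P (zl S P) D k`, `D = cv S P` arbitrary.

* `le_of_lo` : `S ≤ K ≤ P` contains an element acting as `lo 1` on one summand and trivially on `D`: `K = P`;
* `exists_gen` : a generic element (the Weyl element of the summand of `A`);
* `RR_inf` : `RR S P A ⊓ cv S P = ⊥`.
-/

set_option autoImplicit false
set_option linter.unusedSectionVars false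

namespace Cfsg.Agent.Omega.NO3S.SOne.NatD

open Subgroup Cfsg Cfsg.Agent.ZN Cfsg.Agent.ZN.ChoiceBase Cfsg.Agent.Omega.MinPar
open Cfsg.Agent.Omega.FFThm (ElemM OffM NoOverM ConclM NatKM ActsSL relIndex_le_iff)
open Cfsg.Agent.Omega.FrameFF (cv)
open Cfsg.Agent.Omega.NatPair (ap ap_mul ap_one ap_inv_ap ap_zero' ap_one' ext2 exists_ap ap_inj)
open Cfsg.Agent.Omega.NOThreeL.NF (MinOffM)
open Cfsg.Agent.Omega.NOThreeL.NF.NatR (Const ap_up ap_lo)
open Cfsg.Agent.Lib.SL2Mat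
open scoped commutatorElement Pointwise

universe u

variable {G : Type u} [Group G] {F : Type} [Field F] {k : ℕ}

/-- an element acting trivially on the coordinates other than `j` -/
theorem eq_mulSingle {S P V D : Subgroup G} {M : NatKM F S P V D k} {h : G}
    {B : Fin k → Matrix.SpecialLinearGroup (Fin 2) F} (hB : ∀ v ∈ V, ∀ i, M.e (h * v * h⁻¹) i = ap (B i) (M.e v i))
    {j : Fin k} (hfix : ∀ v ∈ V, M.e v j = 0 → M.e (h * v * h⁻¹) = M.e v) : B = Pi.mulSingle j (B j) := by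
  classical
  funext i
  by_cases hi : i = j
  · subst hi; rw [Pi.mulSingle_eq_same]
  · rw [Pi.mulSingle_eq_of_ne hi]
    refine ap_inj fun x => ?_
    obtain ⟨v, hv, hvi, hvj⟩ := exists_pt M i x
    have h1 := hB v hv i
    rw [hfix v hv (hvj j (Ne.symm hi)), hvi] at h1
    rw [← h1, ap_one]

/-- the elements of `K ≥ S` cover `SL₂(F)^k` as soon as one of them acts as `lo 1` on one summand -/
theorem le_of_lo [CharP F 2] {S P D K : Subgroup G} (M : NatKM F S P (zl S P) D k)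
    (hA : AmbD S P (zl S P) D) (hP : IsParS S P)
    (hSK : S ≤ K) (hKP : K ≤ P) {g : G} (hg : g ∈ K) {j : Fin k}
    (hac : ActsSL M.e (zl S P) D g (Pi.mulSingle j (lo 1))) : P ≤ K := by
  classical
  have hSP := hP.le
  refine NOThreeL.Low.eq_of_sup hP hSK hKP ?_
  set K' : Subgroup G := K ⊔ (P ⊓ centralizer (zl S P : Set G)) with hK'
  have hKK' : K ≤ K' := le_sup_left
  have hCK' : P ⊓ centralizer (zl S P : Set G) ≤ K' := le_sup_right
  have hK'P : K' ≤ P := _root_.sup_le hKP inf_le_left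
  let Γ : Subgroup (Fin k → Matrix.SpecialLinearGroup (Fin 2) F) :=
    { carrier := {B | ∃ m ∈ K', ActsSL M.e (zl S P) D m B}
      mul_mem' := by
        rintro B B' ⟨m, hm, hmB⟩ ⟨m', hm', hmB'⟩
        exact ⟨m * m', mul_mem hm hm', act_mul hA (hK'P hm') hmB hmB'⟩
      one_mem' := ⟨1, one_mem _, act_cent hA.DV (one_mem _)⟩
      inv_mem' := by
        rintro B ⟨m, hm, hmB⟩
        exact ⟨m⁻¹, inv_mem hm, act_inv hA (hK'P hm) hmB⟩ }
  have hup : ∀ i c, Pi.mulSingle i (up c) ∈ Γ := by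
    intro i c
    obtain ⟨t, ht, hac⟩ := M.unip (Pi.single i c)
    rw [single_up] at hac
    exact ⟨t, hKK' (hSK ht), hac⟩
  have hlo1 : Pi.mulSingle j (lo 1) ∈ Γ := ⟨g, hKK' hg, hac⟩
  -- an element of `P` acting as an element of `Γ` is in `K'`
  have hmem : ∀ h ∈ P, ∀ B, ActsSL M.e (zl S P) D h B → B ∈ Γ → h ∈ K' := by
    rintro h hh B hB ⟨m, hm, hmB⟩
    have h2 : m⁻¹ * h ∈ K' :=
      hCK' (mem_inf.2 ⟨mul_mem (inv_mem (hK'P hm)) hh, cent_of_same hA hh (hK'P hm) hB hmB⟩)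
    have h3 := mul_mem hm h2
    rwa [mul_inv_cancel_left] at h3
  -- the summand `j`
  have hw : (Pi.mulSingle j (wm (1 : F) one_ne_zero) : Fin k → Matrix.SpecialLinearGroup (Fin 2) F) ∈ Γ := by
    have h1 : wm (1 : F) one_ne_zero = lo 1 * up 1 * lo 1 := by
      rw [wm_eq, inv_one, CharTwo.neg_eq]
    rw [h1, Pi.mulSingle_mul, Pi.mulSingle_mul]
    exact mul_mem (mul_mem hlo1 (hup j 1)) hlo1
  have hlo : ∀ c, Pi.mulSingle j (lo c) ∈ Γ := by
    intro c
    have h1 : lo c = wm (1 : F) one_ne_zero * up (-c) * (wm (1 : F) one_ne_zero)⁻¹ := by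
      rw [wm_up, mul_inv_cancel_right]
      congr 1
      ring
    rw [h1, Pi.mulSingle_mul, Pi.mulSingle_mul, Pi.mulSingle_inv]
    exact mul_mem (mul_mem hw (hup j _)) (inv_mem hw)
  have hj : ∀ B, Pi.mulSingle j B ∈ Γ := by
    intro B
    obtain ⟨a, b, c, d, h1⟩ := exists_up_lo B
    rw [h1, Pi.mulSingle_mul, Pi.mulSingle_mul, Pi.mulSingle_mul]
    exact mul_mem (mul_mem (mul_mem (hup j a) (hlo b)) (hup j c)) (hlo d)
  -- all summands
  have hall : ∀ i B, Pi.mulSingle i B ∈ Γ := by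
    intro i B
    obtain ⟨t, ht, htr⟩ := M.trans j i
    obtain ⟨h, hh, hB⟩ := M.lift (Pi.mulSingle i B)
    have htP := hSP ht
    have h1 : t⁻¹ * h * t ∈ P := mul_mem (mul_mem (inv_mem htP) hh) htP
    obtain ⟨B', hB'⟩ := M.norm t⁻¹ (inv_mem htP) h hh _ hB.1
    have hB'' : ∀ v ∈ zl S P, ∀ i', M.e (t⁻¹ * h * t * v * (t⁻¹ * h * t)⁻¹) i' = ap (B' i') (M.e v i') := by
      intro v hv i'
      have h2 := hB' v hv i'
      rwa [inv_inv] at h2
    have hfix : ∀ v ∈ zl S P, M.e v j = 0 → M.e (t⁻¹ * h * t * v * (t⁻¹ * h * t)⁻¹) = M.e v := by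
      intro v hv h0
      have hv' : t * v * t⁻¹ ∈ zl S P := hA.cm htP hv
      have h3 : M.e (t * v * t⁻¹) i = 0 := (htr v hv).2 h0
      have h4 : M.e (h * (t * v * t⁻¹) * h⁻¹) = M.e (t * v * t⁻¹) := by
        funext i'
        rw [hB.1 _ hv' i']
        by_cases hi' : i' = i
        · subst hi'
          rw [Pi.mulSingle_eq_same, h3]
          refine ext2 ?_ ?_
          · rw [ap_zero']; simp
          · rw [ap_one']; simp
        · rw [Pi.mulSingle_eq_of_ne hi', ap_one]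
      rw [e_eq_iff (hA.cm hh hv') hv'] at h4
      rw [e_eq_iff (hA.cm h1 hv) hv]
      have h5 := hA.cmD (inv_mem htP) h4
      have e1 : t⁻¹ * (h * (t * v * t⁻¹) * h⁻¹ * (t * v * t⁻¹)⁻¹) * t⁻¹⁻¹ =
        t⁻¹ * h * t * v * (t⁻¹ * h * t)⁻¹ * v⁻¹ := by group
      rwa [e1] at h5
    have h5 := eq_mulSingle hB'' hfix
    have hact : ActsSL M.e (zl S P) D (t⁻¹ * h * t) (Pi.mulSingle j (B' j)) := by
      rw [← h5]
      refine ⟨hB'', fun d hd => ?_⟩
      have h6 := hB.2 _ (hA.cmD htP hd)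
      calc t⁻¹ * h * t * d = t⁻¹ * (h * (t * d * t⁻¹)) * t := by group
        _ = t⁻¹ * (t * d * t⁻¹ * h) * t := by rw [h6]
        _ = d * (t⁻¹ * h * t) := by group
    have h6 : t⁻¹ * h * t ∈ K' := hmem _ h1 _ hact (hj _)
    have h7 : h ∈ K' := by
      have h8 := mul_mem (mul_mem (hKK' (hSK ht)) h6) (inv_mem (hKK' (hSK ht)))
      have e2 : t * (t⁻¹ * h * t) * t⁻¹ = h := by group
      rwa [e2] at h8
    exact ⟨h, h7, hB⟩
  have hΓ : ∀ B, B ∈ Γ := fun B => pi_mem_of_mulSingle_mem B fun i => hall i (B i)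
  exact M.gen K' (hSK.trans hKK') fun h hh A hA' => hmem h hh A hA' (hΓ A)

/-- **the field `gen` of `NT`** -/
theorem exists_gen [Finite G] [Finite F] [CharP F 2] {S P : Subgroup G} (M : NatKM F S P (zl S P) (cv S P) k)
    (hA : AmbD S P (zl S P) (cv S P)) (hP : IsParS S P) {A : Subgroup G} (hmin : MinOffM (zl S P) S A)
    (hc : Const (zl S P) A) : ∃ p, Gen S P A p := by
  classical
  have hSP := hP.le
  obtain ⟨i, hr⟩ := One.of_min hA M hmin
  obtain ⟨g, hg, hgac⟩ := M.lift (Pi.mulSingle i (wm 1 one_ne_zero))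
  have hAP : A ≤ P := hmin.le.trans hSP
  refine ⟨g⁻¹, inv_mem hg, ?_, ?_⟩
  · rw [inv_inv]
    obtain ⟨a, ha, hac⟩ := hr.ex (-1)
    have haP := hAP ha
    have h1 := act_mul hA (inv_mem hg) (act_mul hA haP hgac hac) (act_inv hA hg hgac)
    have e1 : (Pi.mulSingle i (wm 1 one_ne_zero) : Fin k → Matrix.SpecialLinearGroup (Fin 2) F) *
        Pi.mulSingle i (up (-1)) * (Pi.mulSingle i (wm 1 one_ne_zero))⁻¹ = Pi.mulSingle i (lo 1) := by
      rw [← Pi.mulSingle_mul, ← Pi.mulSingle_inv, ← Pi.mulSingle_mul]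
      congr 1
      rw [wm_up, mul_inv_cancel_right]
      congr 1
      ring
    rw [e1] at h1
    refine le_of_lo M hA hP le_sup_left (_root_.sup_le hSP ?_)
      ((le_sup_right : MulAut.conj g • A ≤ _) (NOne.Frame.conj_mem ha)) h1
    rintro _ ⟨x, hx, rfl⟩
    exact mul_mem (mul_mem hg (hAP hx)) (inv_mem hg)
  · intro x hx hcx hpx
    have hpe := comm_e (M := M) hA hr hpx
    have h1 : ∀ j, M.e x j 1 = 0 := by
      intro j
      obtain ⟨t, ht, hrt⟩ := exists_one hA M hmin j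
      refine hrt.zero_of_cent hx ?_
      rw [mem_centralizer_iff]
      intro y hy
      have h2 : y ∈ centralizer ({x} : Set G) := hcx t ht hy
      exact mem_centralizer_singleton_iff.1 h2
    have hac' := act_inv hA hg hgac
    have h2 : ∀ j, M.e (g⁻¹ * x * g⁻¹⁻¹) j = ap ((Pi.mulSingle i (wm 1 one_ne_zero) :
        Fin k → Matrix.SpecialLinearGroup (Fin 2) F)⁻¹ j) (M.e x j) := hac'.1 x hx
    have hx0 : M.e x = 0 := by
      funext j
      by_cases hj : j = i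
      · subst hj
        have h3 := hpe.2.1
        rw [h2 j] at h3
        have h4 : ap (wm (1 : F) one_ne_zero) (ap ((Pi.mulSingle j (wm 1 one_ne_zero) :
          Fin k → Matrix.SpecialLinearGroup (Fin 2) F)⁻¹ j) (M.e x j)) = M.e x j := by
          rw [Pi.inv_apply, Pi.mulSingle_eq_same, ← ap_mul, mul_inv_cancel, ap_one]
        refine ext2 ?_ (h1 j)
        rw [← h4, ap_zero', h3, wm_00]
        simp
      · have h3 := hpe.2.2 j hj
        rw [h2 j, Pi.inv_apply, Pi.mulSingle_eq_of_ne hj, inv_one, ap_one] at h3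
        rw [h3]
        rfl
    have hxD : x ∈ cv S P := (M.ker x hx).1 hx0
    have h5 : g⁻¹ * x * g⁻¹⁻¹ = x := by
      rw [hac'.2 x hxD, mul_inv_cancel_right]
    have h6 : x ∈ (⁅zl S P, A⁆ : Subgroup G) ⊓ cv S P := ⟨by rw [← h5]; exact hpx, hxD⟩
    rw [comm_inf (M := M) hA hr hmin.off hc] at h6
    exact mem_bot.1 h6

/-- **the field `dis` of `NT`** -/
theorem RR_inf [Finite G] [Finite F] {S P : Subgroup G} (M : NatKM F S P (zl S P) (cv S P) k)
    (hA : AmbD S P (zl S P) (cv S P)) {A : Subgroup G} (hmin : MinOffM (zl S P) S A)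
    (hc : Const (zl S P) A) : RR S P A ⊓ cv S P = ⊥ := by
  classical
  have hSV : S ≤ normalizer (zl S P : Set G) := hA.SP.trans hA.PV
  obtain ⟨i, hr⟩ := One.of_min hA M hmin
  choose t ht hrt using exists_one hA M hmin
  set Rj : Fin k → Subgroup G := fun j => ⁅zl S P, MulAut.conj (t j) • A⁆ with hRj
  have hconj : ∀ s ∈ S, MulAut.conj s • (⁅zl S P, A⁆ : Subgroup G) = ⁅zl S P, MulAut.conj s • A⁆ :=
    fun s hs => (NOThreeL.NF.NatR.comm_cj s (hSV hs)).symm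
  have hRR : RR S P A ≤ ⨆ j, Rj j := by
    refine iSup_le fun s => ?_
    rw [hconj s s.2]
    obtain ⟨j, hj⟩ := One.of_min hA M (NOThreeL.NF.NatR.minOffM_cj hSV hmin s.2)
    have h1 : (⁅zl S P, MulAut.conj (s : G) • A⁆ : Subgroup G) = Rj j := hj.comm_same hA (hrt j)
    rw [h1]
    exact le_iSup Rj j
  have hinf : ∀ j, ∀ x ∈ Rj j, x ∈ cv S P → x = 1 := by
    intro j x hx hxD
    have h1 : x ∈ MulAut.conj (t j) • (⁅zl S P, A⁆ : Subgroup G) := by rw [hconj _ (ht j)]; exact hx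
    obtain ⟨y, hy, hyx⟩ := h1
    have hyx' : t j * y * (t j)⁻¹ = x := hyx
    have h2 := hA.cmD (inv_mem (hA.SP (ht j))) hxD
    have e : (t j)⁻¹ * x * (t j)⁻¹⁻¹ = y := by rw [← hyx']; group
    rw [e] at h2
    have h3 : y ∈ (⁅zl S P, A⁆ : Subgroup G) ⊓ cv S P := ⟨hy, h2⟩
    rw [comm_inf (M := M) hA hr hmin.off hc] at h3
    rw [← hyx', mem_bot.1 h3, mul_one, mul_inv_cancel]
  have hRje : ∀ j, ∀ x ∈ Rj j, x ∈ zl S P ∧ ∀ l, l ≠ j → M.e x l = 0 := fun j x hx =>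
    ⟨(comm_e hA (hrt j) hx).1, (comm_e hA (hrt j) hx).2.2⟩
  have key : ∀ J : Finset (Fin k), ∀ x ∈ (⨆ j ∈ J, Rj j), x ∈ zl S P ∧ (∀ l, l ∉ J → M.e x l = 0) ∧
      (x ∈ cv S P → x = 1) := by
    intro J
    induction J using Finset.induction_on with
    | empty =>
      intro x hx
      have h1 : x = 1 := by simpa using hx
      rw [h1]
      exact ⟨one_mem _, fun l _ => by rw [e_one]; rfl, fun _ => rfl⟩
    | insert a J' ha ih =>
      intro x hx
      rw [Finset.iSup_insert] at hx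
      have hR'V : (⨆ j ∈ J', Rj j) ≤ zl S P := fun y hy => (ih y hy).1
      have hn : Rj a ≤ normalizer ((⨆ j ∈ J', Rj j : Subgroup G) : Set G) := by
        intro y hy
        have hyV := (hRje a y hy).1
        refine mem_normalizer_iff.2 fun z => ?_
        constructor
        · intro hz
          rw [hA.ab y hyV z (hR'V hz), mul_inv_cancel_right]; exact hz
        · intro hz
          have h1 : z = y * z * y⁻¹ := by
            have h2 := hA.ab y⁻¹ (inv_mem hyV) _ (hR'V hz)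
            calc z = y⁻¹ * (y * z * y⁻¹) * y := by group
              _ = y * z * y⁻¹ * y⁻¹ * y := by rw [h2]
              _ = y * z * y⁻¹ := by group
          rw [h1]; exact hz
      have hx' : x ∈ ((Rj a ⊔ ⨆ j ∈ J', Rj j : Subgroup G) : Set G) := hx
      rw [coe_mul_of_left_le_normalizer_right _ _ hn] at hx'
      obtain ⟨y, hy, z, hz, rfl⟩ := hx'
      obtain ⟨hyV, hye⟩ := hRje a y hy
      obtain ⟨hzV, hze, hz1⟩ := ih z hz
      dsimp only
      refine ⟨mul_mem hyV hzV, fun l hl => ?_, fun hD => ?_⟩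
      · rw [Finset.mem_insert, not_or] at hl
        rw [M.mul y hyV z hzV, Pi.add_apply, hye l hl.1, hze l hl.2, add_zero]
      · have h1 := (M.ker _ (mul_mem hyV hzV)).2 hD
        rw [M.mul y hyV z hzV] at h1
        have hy0 : M.e y = 0 := by
          funext l
          by_cases hl : l = a
          · subst hl
            have h2 := congrFun h1 l
            rw [Pi.add_apply, hze l ha, add_zero] at h2
            exact h2
          · exact hye l hl
        have hyD : y ∈ cv S P := (M.ker y hyV).1 hy0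
        have hy1 := hinf a y hy hyD
        rw [hy1, one_mul] at hD ⊢
        exact hz1 hD
  refine eq_bot_iff.2 fun x hx => mem_bot.2 ?_
  have h1 := hRR hx.1
  have h2 : x ∈ ⨆ j ∈ (Finset.univ : Finset (Fin k)), Rj j := by simpa using h1
  exact (key _ x h2).2.2 hx.2

end Cfsg.Agent.Omega.NO3S.SOne.NatD

end

section


/-!
# LEMMA PAR (the parity argument for `q₀ = 2` in (S1) of GammaFF; bb OMEGA, helper480)

`V` elementary abelian (only: commutative), normalised by `P` and `P₁`, `C_V(P) = 1`; `𝒲` is a set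
of pairs `(W',r)` (a subgroup and its centre `r ∈ V`) closed under conjugation by `⟨P,P₁⟩`.
`P` is passive: `W' ≤ S` implies `W'^p ≤ S`.  If `W' ≤ S` is active for `P₁` (`W' ≰ Q₁`) then its
centre is an `S`-conjugate of `r₁`.  Some `g₀ ∈ P₁` moves `r₁` and fixes all other `S`-conjugates.
Contradiction.
-/

set_option linter.unusedSectionVars false

open scoped Pointwise Classical
open MulAut

namespace Cfsg.Agent.Omega.NO3S.SOne.Par

universe u

variable {G : Type u} [Group G] [Finite G]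

/-- conjugation of a pair. -/
def cp (g : G) (θ : Subgroup G × G) : Subgroup G × G := (conj g • θ.1, g * θ.2 * g⁻¹)

theorem cp_mul (g h : G) (θ : Subgroup G × G) : cp (g * h) θ = cp g (cp h θ) := by
  unfold cp
  refine Prod.ext ?_ ?_
  · simp only [map_mul, mul_smul]
  · simp only [mul_inv_rev, mul_assoc]

theorem cp_one (θ : Subgroup G × G) : cp 1 θ = θ := by
  unfold cp
  refine Prod.ext ?_ ?_
  · simp
  · simp

theorem cp_inj (g : G) : Function.Injective (cp g) := by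
  intro a b h
  have h2 := congrArg (cp g⁻¹) h
  rwa [← cp_mul, ← cp_mul, inv_mul_cancel, cp_one, cp_one] at h2

/-- the group generated by all `W' ≤ S` with centre `r`. -/
def gen (𝒲 : Set (Subgroup G × G)) (S : Subgroup G) (r : G) : Subgroup G :=
  sSup {W | (W, r) ∈ 𝒲 ∧ W ≤ S}

theorem gen_le (𝒲 : Set (Subgroup G × G)) (S : Subgroup G) (r : G) : gen 𝒲 S r ≤ S :=
  sSup_le fun _ h => h.2

theorem le_gen {𝒲 : Set (Subgroup G × G)} {S W : Subgroup G} {r : G} (h : (W, r) ∈ 𝒲) (hS : W ≤ S) :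
    W ≤ gen 𝒲 S r := le_sSup ⟨h, hS⟩

theorem conj_gen_le {𝒲 : Set (Subgroup G × G)} {S : Subgroup G} {r : G} {K : Subgroup G} {g : G}
    (h : ∀ W, (W, r) ∈ 𝒲 → W ≤ S → conj g • W ≤ K) : conj g • gen 𝒲 S r ≤ K := by
  rw [Subgroup.pointwise_smul_subset_iff]
  refine sSup_le fun W hW => ?_
  rw [← Subgroup.pointwise_smul_subset_iff]
  exact h W hW.1 hW.2

/-- the commutative group `V`. -/
abbrev cgr (V : Subgroup G) (hVc : ∀ x ∈ V, ∀ y ∈ V, x * y = y * x) : CommGroup V :=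
  { (inferInstance : Group V) with mul_comm := fun a b => Subtype.ext (hVc a a.2 b b.2) }

/-- the product of the centres over a finite set of pairs (in the commutative group `V`). -/
noncomputable def pr (V : Subgroup G) (hVc : ∀ x ∈ V, ∀ y ∈ V, x * y = y * x)
    (T : Finset (Subgroup G × G)) : V :=
  let _ := cgr V hVc
  ∏ θ ∈ T, if h : θ.2 ∈ V then (⟨θ.2, h⟩ : V) else 1

/-- conjugation by `g ∈ N(V)` on `V`. -/
def cj {V : Subgroup G} (g : G) (hg : g ∈ Subgroup.normalizer (V : Set G)) : V →* V where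
  toFun v := ⟨g * v * g⁻¹, (Subgroup.mem_normalizer_iff.1 hg v).1 v.2⟩
  map_one' := by ext; simp
  map_mul' a b := by ext; simp [mul_assoc]

theorem cj_pr {V : Subgroup G} (hVc : ∀ x ∈ V, ∀ y ∈ V, x * y = y * x) {g : G}
    (hg : g ∈ Subgroup.normalizer (V : Set G))
    {T : Finset (Subgroup G × G)} (hT : ∀ θ ∈ T, cp g θ ∈ T) : cj g hg (pr V hVc T) = pr V hVc T := by
  let _ := cgr V hVc
  unfold pr
  rw [map_prod]
  have himg : T.image (cp g) = T := by
    apply Finset.eq_of_subset_of_card_le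
    · intro θ hθ
      obtain ⟨η, hη, rfl⟩ := Finset.mem_image.1 hθ
      exact hT η hη
    · rw [Finset.card_image_of_injective _ (cp_inj g)]
  conv_rhs => rw [← himg]
  rw [Finset.prod_image (fun a _ b _ h => cp_inj g h)]
  refine Finset.prod_congr rfl fun θ _ => ?_
  have hiff : (cp g θ).2 ∈ V ↔ θ.2 ∈ V := (Subgroup.mem_normalizer_iff.1 hg θ.2).symm
  by_cases h : θ.2 ∈ V
  · rw [dif_pos h, dif_pos (hiff.2 h)]
    rfl
  · rw [dif_neg h, dif_neg (fun h' => h (hiff.1 h')), map_one]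

/-- **LEMMA PAR.** -/
theorem par {S P P₁ Q₁ V : Subgroup G} (hVc : ∀ x ∈ V, ∀ y ∈ V, x * y = y * x)
    (hPV : P ≤ Subgroup.normalizer (V : Set G)) (hP₁V : P₁ ≤ Subgroup.normalizer (V : Set G))
    (hSP : S ≤ P) (hQn : ∀ g ∈ P₁, conj g • Q₁ ≤ Q₁) (hQS : Q₁ ≤ S)
    (hCP : ∀ v ∈ V, (∀ p ∈ P, p * v * p⁻¹ = v) → v = 1)
    (𝒲 : Set (Subgroup G × G)) (hV : ∀ w ∈ 𝒲, w.2 ∈ V)
    (hconj : ∀ w ∈ 𝒲, ∀ g ∈ P ⊔ P₁, cp g w ∈ 𝒲)
    (h1 : ∀ w ∈ 𝒲, w.1 ≤ S → ∀ p ∈ P, conj p • w.1 ≤ S)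
    {W₁ : Subgroup G} {r₁ : G} (hw : (W₁, r₁) ∈ 𝒲) (hW₁S : W₁ ≤ S) (hW₁Q : ¬ W₁ ≤ Q₁)
    (h2 : ∀ w ∈ 𝒲, w.1 ≤ S → ¬ w.1 ≤ Q₁ → ∃ s ∈ S, w.2 = s * r₁ * s⁻¹)
    {g₀ : G} (hg₀ : g₀ ∈ P₁) (hmv : g₀ * r₁ * g₀⁻¹ ≠ r₁)
    (hfx : ∀ s ∈ S, s * r₁ * s⁻¹ ≠ r₁ → g₀ * (s * r₁ * s⁻¹) * g₀⁻¹ = s * r₁ * s⁻¹) : False := by
  let _ := cgr V hVc
  set D₁ : Subgroup G := gen 𝒲 S r₁ with hD₁
  set Y : Subgroup G := P ⊔ P₁ with hY
  have hPY : P ≤ Y := le_sup_left
  have hP₁Y : P₁ ≤ Y := le_sup_right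
  -- the orbit
  let Θ : Set (Subgroup G × G) := {θ | (∃ y ∈ Y, θ = cp y (D₁, r₁)) ∧ θ.1 ≤ S}
  have hfin : Θ.Finite := Set.toFinite _
  let T : Finset (Subgroup G × G) := hfin.toFinset
  have hT : ∀ θ, θ ∈ T ↔ (∃ y ∈ Y, θ = cp y (D₁, r₁)) ∧ θ.1 ≤ S := fun θ => hfin.mem_toFinset
  -- generators of a member
  have hgen : ∀ y ∈ Y, ∀ K : Subgroup G, ∀ g ∈ Y, (∀ W r, (W, r) ∈ 𝒲 → r = y * r₁ * y⁻¹ →
      W ≤ conj y • D₁ → conj g • W ≤ K) → conj g • (conj y • D₁) ≤ K := by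
    intro y hy K g hg H
    rw [← mul_smul, ← map_mul]
    refine conj_gen_le fun W hW hWS => ?_
    rw [map_mul, mul_smul]
    refine H (conj y • W) (y * r₁ * y⁻¹) (hconj _ hW y hy) rfl ?_
    exact Subgroup.pointwise_smul_le_pointwise_smul_iff.2 (le_gen hW hWS)
  -- `P` permutes `T`
  have hPT : ∀ p ∈ P, ∀ θ ∈ T, cp p θ ∈ T := by
    intro p hp θ hθ
    obtain ⟨⟨y, hy, rfl⟩, hS⟩ := (hT _).1 hθ
    refine (hT _).2 ⟨⟨p * y, Y.mul_mem (hPY hp) hy, (cp_mul _ _ _).symm⟩, ?_⟩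
    exact hgen y hy S p (hPY hp) fun W r hW _ hle => h1 _ hW (hle.trans hS) p hp
  -- `P₁` permutes the members in `Q₁`
  let T₁ : Finset (Subgroup G × G) := T.filter fun θ => θ.1 ≤ Q₁
  let T₂ : Finset (Subgroup G × G) := T.filter fun θ => ¬ θ.1 ≤ Q₁
  have hP₁T : ∀ g ∈ P₁, ∀ θ ∈ T₁, cp g θ ∈ T₁ := by
    intro g hg θ hθ
    obtain ⟨hθT, hθQ⟩ := Finset.mem_filter.1 hθ
    obtain ⟨⟨y, hy, rfl⟩, hS⟩ := (hT _).1 hθT
    have hle : conj g • (conj y • D₁) ≤ Q₁ :=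
      (Subgroup.pointwise_smul_le_pointwise_smul_iff.2 hθQ).trans (hQn g hg)
    exact Finset.mem_filter.2 ⟨(hT _).2 ⟨⟨g * y, Y.mul_mem (hP₁Y hg) hy, (cp_mul _ _ _).symm⟩, hle.trans hQS⟩, hle⟩
  -- the products
  have hprT : pr V hVc T = 1 := by
    have := hCP (pr V hVc T : V) (pr V hVc T).2 fun p hp => by
      have h := cj_pr hVc (hPV hp) (hPT p hp)
      exact congrArg Subtype.val h
    exact Subtype.ext this
  have hsplit : pr V hVc T = pr V hVc T₁ * pr V hVc T₂ := by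
    unfold pr
    exact (Finset.prod_filter_mul_prod_filter_not T (fun θ => θ.1 ≤ Q₁) _).symm
  have hfix₁ : cj g₀ (hP₁V hg₀) (pr V hVc T₁) = pr V hVc T₁ := cj_pr hVc _ (hP₁T g₀ hg₀)
  have hfix₂ : cj g₀ (hP₁V hg₀) (pr V hVc T₂) = pr V hVc T₂ := by
    have h : pr V hVc T₂ = (pr V hVc T₁)⁻¹ := by
      rw [eq_inv_iff_mul_eq_one, mul_comm, ← hsplit, hprT]
    rw [h, map_inv, hfix₁]
  -- members of `T₂`
  have hT₂ : ∀ θ ∈ T₂, ∃ s ∈ S, θ = cp s (D₁, r₁) := by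
    intro θ hθ
    obtain ⟨hθT, hθQ⟩ := Finset.mem_filter.1 hθ
    obtain ⟨⟨y, hy, rfl⟩, hS⟩ := (hT _).1 hθT
    have hex : ∃ s ∈ S, y * r₁ * y⁻¹ = s * r₁ * s⁻¹ := by
      by_contra hne
      apply hθQ
      have := hgen y hy Q₁ 1 Y.one_mem fun W r hW hr hle => ?_
      · rwa [map_one, one_smul] at this
      · rw [map_one, one_smul]
        by_contra hWQ
        obtain ⟨s, hs, h⟩ := h2 _ hW (hle.trans hS) hWQ
        exact hne ⟨s, hs, hr.symm.trans h⟩
    obtain ⟨s, hs, hr⟩ := hex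
    refine ⟨s, hs, Prod.ext ?_ hr⟩
    have hsY : s ∈ Y := hPY (hSP hs)
    have hle : conj s⁻¹ • (conj y • D₁) ≤ D₁ := by
      refine hgen y hy D₁ s⁻¹ (Y.inv_mem hsY) fun W r hW hr' hle => ?_
      have h3 : (conj s⁻¹ • W, r₁) ∈ 𝒲 := by
        have h4 := hconj _ hW s⁻¹ (Y.inv_mem hsY)
        have h5 : cp s⁻¹ (W, r) = (conj s⁻¹ • W, r₁) := by
          refine Prod.ext rfl ?_
          change s⁻¹ * r * s⁻¹⁻¹ = r₁
          rw [hr', hr]
          group
        rwa [h5] at h4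
      refine le_gen h3 ?_
      rw [Subgroup.pointwise_smul_subset_iff, ← map_inv, inv_inv]
      have h6 : conj s • S = S := by
        ext x
        rw [Subgroup.mem_pointwise_smul_iff_inv_smul_mem, ← map_inv, MulAut.smul_def, conj_apply, inv_inv]
        constructor
        · intro hx
          have := S.mul_mem (S.mul_mem hs hx) (S.inv_mem hs)
          simpa [mul_assoc] using this
        · intro hx
          exact S.mul_mem (S.mul_mem (S.inv_mem hs) hx) hs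
      rw [h6]
      exact hle.trans hS
    have hcard : Nat.card (conj s⁻¹ • (conj y • D₁) : Subgroup G) = Nat.card D₁ := by
      rw [← mul_smul, ← map_mul]
      exact Nat.card_congr (Subgroup.equivSMul (conj (s⁻¹ * y)) D₁).toEquiv.symm
    have heq : conj s⁻¹ • (conj y • D₁) = D₁ := Subgroup.eq_of_le_of_card_ge hle hcard.ge
    change conj y • D₁ = conj s • D₁
    conv_rhs => rw [← heq]
    rw [smul_smul (conj s), ← map_mul, mul_inv_cancel, map_one, one_smul]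
  have hmem : ((D₁, r₁) : Subgroup G × G) ∈ T₂ := by
    refine Finset.mem_filter.2 ⟨(hT _).2 ⟨⟨1, Y.one_mem, (cp_one _).symm⟩, gen_le _ _ _⟩, fun h => ?_⟩
    exact hW₁Q ((le_gen hw hW₁S).trans h)
  have huniq : ∀ θ ∈ T₂, θ.2 = r₁ → θ = (D₁, r₁) := by
    intro θ hθ hr
    obtain ⟨s, hs, rfl⟩ := hT₂ θ hθ
    refine Prod.ext ?_ hr
    have hle : conj s • D₁ ≤ D₁ := by
      refine conj_gen_le fun W hW hWS => ?_
      have h3 : (conj s • W, r₁) ∈ 𝒲 := by
        have h4 := hconj _ hW s (hPY (hSP hs))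
        have h5 : cp s (W, r₁) = (conj s • W, r₁) := Prod.ext rfl hr
        rwa [h5] at h4
      exact le_gen h3 (le_trans (le_trans (Subgroup.pointwise_smul_le_pointwise_smul_iff.2 (le_gen hW hWS)) le_rfl)
        ((Finset.mem_filter.1 hθ).1 |> (hT _).1 |>.2))
    exact Subgroup.eq_of_le_of_card_ge hle (Nat.card_congr (Subgroup.equivSMul (conj s) D₁).toEquiv).le
  -- the end
  have hpr₂ : pr V hVc T₂ = (⟨r₁, hV _ hw⟩ : V) * pr V hVc (T₂.erase (D₁, r₁)) := by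
    unfold pr
    rw [← Finset.mul_prod_erase T₂ _ hmem, dif_pos (hV _ hw)]
  have hfix₃ : cj g₀ (hP₁V hg₀) (pr V hVc (T₂.erase (D₁, r₁))) = pr V hVc (T₂.erase (D₁, r₁)) := by
    unfold pr
    rw [map_prod]
    refine Finset.prod_congr rfl fun θ hθ => ?_
    obtain ⟨hne, hθ⟩ := Finset.mem_erase.1 hθ
    obtain ⟨s, hs, rfl⟩ := hT₂ θ hθ
    have hne' : s * r₁ * s⁻¹ ≠ r₁ := fun heq => hne (huniq _ hθ heq)
    by_cases h : (cp s (D₁, r₁)).2 ∈ V
    · rw [dif_pos h]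
      exact Subtype.ext (hfx s hs hne')
    · rw [dif_neg h, map_one]
  have h6 : cj g₀ (hP₁V hg₀) (⟨r₁, hV _ hw⟩ : V) = ⟨r₁, hV _ hw⟩ := by
    have := hfix₂
    rw [hpr₂, map_mul, hfix₃] at this
    exact mul_right_cancel this
  exact hmv (congrArg Subtype.val h6)

end Cfsg.Agent.Omega.NO3S.SOne.Par

end

end

-- merged: Cfsg.Agent.Mrg.Omega.NO3S.SOne.PU.Tv
section

section


/-!
# GammaFF, (S1), `q₀ = 2`: transvections in `S` on a module with a radical (helper480)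

`Tvc V a r` : `a` acts on `V` as a transvection with centre `r`.

* `Tvc.off` : `⟨a⟩` is an offender;
* `nat_form`, `nat_conj`, `nat_move` : natural modules (`M : NatKM F S R V D k`, `D` arbitrary);
-/

set_option autoImplicit false

namespace Cfsg.Agent.Omega.NO3S.SOne.PU

open Subgroup Cfsg Cfsg.Agent.ZN.ChoiceBase Cfsg.Agent.ZN.ChoiceSit
open Cfsg.Agent.Omega.FFThm
open Cfsg.Agent.Omega.NO3S.ThmB
open Cfsg.Agent.Lib.SL2Mat
open Cfsg.Agent.Omega.NatPair (ap)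

universe u

variable {G : Type u} [Group G]

/-- `a` acts on `V` as a transvection with centre `r` -/
structure Tvc (V : Subgroup G) (a r : G) : Prop where
  cm : ∀ v ∈ V, a * v * a⁻¹ = v ∨ a * v * a⁻¹ = r * v
  mv : ∃ v ∈ V, a * v * a⁻¹ ≠ v

namespace Tvc

variable {V : Subgroup G} {a b r s : G}

theorem ne (h : Tvc V a r) : r ≠ 1 := by
  rintro rfl
  obtain ⟨v, hv, hn⟩ := h.mv
  rcases h.cm v hv with h1 | h1
  · exact hn h1
  · exact hn (by rw [h1, one_mul])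

theorem ex (h : Tvc V a r) : ∃ v ∈ V, a * v * a⁻¹ = r * v := by
  obtain ⟨v, hv, hn⟩ := h.mv
  exact ⟨v, hv, (h.cm v hv).resolve_left hn⟩

theorem mem (h : Tvc V a r) (ha : a ∈ normalizer (V : Set G)) : r ∈ V := by
  obtain ⟨v, hv, h1⟩ := h.ex
  have h2 : a * v * a⁻¹ ∈ V := (mem_normalizer_iff.1 ha v).1 hv
  rw [h1] at h2
  exact (V.mul_mem_cancel_right hv).1 h2

theorem conj (h : Tvc V a r) {g : G} (hg : g ∈ normalizer (V : Set G)) : Tvc V (g * a * g⁻¹) (g * r * g⁻¹) := by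
  have hg' : g⁻¹ ∈ normalizer (V : Set G) := inv_mem hg
  refine ⟨fun v hv => ?_, ?_⟩
  · have hw : g⁻¹ * v * g⁻¹⁻¹ ∈ V := (mem_normalizer_iff.1 hg' v).1 hv
    rcases h.cm _ hw with h1 | h1
    · left
      calc g * a * g⁻¹ * v * (g * a * g⁻¹)⁻¹ = g * (a * (g⁻¹ * v * g⁻¹⁻¹) * a⁻¹) * g⁻¹ := by group
        _ = v := by rw [h1]; group
    · right
      calc g * a * g⁻¹ * v * (g * a * g⁻¹)⁻¹ = g * (a * (g⁻¹ * v * g⁻¹⁻¹) * a⁻¹) * g⁻¹ := by group
        _ = g * r * g⁻¹ * v := by rw [h1]; group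
  · obtain ⟨v, hv, hn⟩ := h.mv
    refine ⟨g * v * g⁻¹, (mem_normalizer_iff.1 hg v).1 hv, fun h1 => hn ?_⟩
    have e : g * a * g⁻¹ * (g * v * g⁻¹) * (g * a * g⁻¹)⁻¹ = g * (a * v * a⁻¹) * g⁻¹ := by group
    rw [e] at h1
    exact mul_left_cancel (mul_right_cancel h1)

/-- the action determines the centre -/
theorem eq (h : Tvc V a r) (h' : Tvc V b s) (hs : ∀ v ∈ V, a * v * a⁻¹ = b * v * b⁻¹) : r = s := by
  obtain ⟨v, hv, hn⟩ := h.mv
  have h1 := (h.cm v hv).resolve_left hn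
  have h2 := (h'.cm v hv).resolve_left (by rw [← hs v hv]; exact hn)
  rw [hs v hv, h2] at h1
  exact (mul_right_cancel h1).symm

theorem fixr (h : Tvc V a r) (hV : IsElementaryAbelian 2 V) (ha : a ∈ normalizer (V : Set G)) :
    a * r * a⁻¹ = r := by
  rcases h.cm r (h.mem ha) with h1 | h1
  · exact h1
  · exfalso
    have h2 : r * r = 1 := by
      have := hV.2 r (h.mem ha)
      rwa [pow_two] at this
    rw [h2] at h1
    have h3 : a * r = a := mul_inv_eq_one.1 h1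
    exact h.ne (mul_eq_left.1 h3)

theorem sq (h : Tvc V a r) (hV : IsElementaryAbelian 2 V) (ha : a ∈ normalizer (V : Set G)) :
    a ^ 2 ∈ centralizer (V : Set G) := by
  have h2 : r * r = 1 := by
    have := hV.2 r (h.mem ha)
    rwa [pow_two] at this
  rw [mem_centralizer_iff]
  intro v hv
  have h3 : a * (a * v * a⁻¹) * a⁻¹ = v := by
    rcases h.cm v hv with h1 | h1
    · rw [h1, h1]
    · rw [h1]
      calc a * (r * v) * a⁻¹ = (a * r * a⁻¹) * (a * v * a⁻¹) := by group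
        _ = r * r * v := by rw [h.fixr hV ha, h1, mul_assoc]
        _ = v := by rw [h2, one_mul]
  have h4 : a ^ 2 * v * (a ^ 2)⁻¹ = v := by
    calc a ^ 2 * v * (a ^ 2)⁻¹ = a * (a * v * a⁻¹) * a⁻¹ := by rw [pow_two]; group
      _ = v := h3
  rw [mul_inv_eq_iff_eq_mul] at h4
  exact h4.symm

theorem zp (h : Tvc V a r) (hV : IsElementaryAbelian 2 V) (ha : a ∈ normalizer (V : Set G)) {x : G}
    (hx : x ∈ zpowers a) : (∀ v ∈ V, x * v * x⁻¹ = v) ∨ ∀ v ∈ V, x * v * x⁻¹ = a * v * a⁻¹ := by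
  obtain ⟨n, rfl⟩ := mem_zpowers_iff.1 hx
  have h2 : ∀ j : ℤ, ∀ v ∈ V, a ^ (2 * j) * v * (a ^ (2 * j))⁻¹ = v := by
    intro j v hv
    have h3 : a ^ (2 * j) ∈ centralizer (V : Set G) := by
      rw [zpow_mul, zpow_ofNat]
      exact zpow_mem (h.sq hV ha) j
    rw [← mem_centralizer_iff.1 h3 v hv, mul_inv_cancel_right]
  rcases Int.even_or_odd' n with ⟨j, rfl | rfl⟩
  · exact Or.inl (h2 j)
  · right
    intro v hv
    have e : a ^ (2 * j + 1) = a * a ^ (2 * j) := by rw [add_comm, zpow_add, zpow_one]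
    rw [e]
    calc a * a ^ (2 * j) * v * (a * a ^ (2 * j))⁻¹ = a * (a ^ (2 * j) * v * (a ^ (2 * j))⁻¹) * a⁻¹ := by group
      _ = a * v * a⁻¹ := by rw [h2 j v hv]

theorem mem_cent_iff {x : G} (v : G) : x ∈ centralizer ({v} : Set G) ↔ x * v * x⁻¹ = v := by
  rw [mem_centralizer_singleton_iff, mul_inv_eq_iff_eq_mul]

/-- a transvection is an offender -/
theorem off [Finite G] (h : Tvc V a r) (hV : IsElementaryAbelian 2 V) (ha : a ∈ normalizer (V : Set G)) :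
    OffM V (zpowers a) where
  sq := by
    intro x hx
    obtain ⟨n, rfl⟩ := mem_zpowers_iff.1 hx
    have e : (a ^ n) ^ 2 = (a ^ 2) ^ n := by
      rw [← zpow_natCast, ← zpow_natCast, ← zpow_mul, ← zpow_mul, mul_comm]
    rw [e]
    exact zpow_mem (h.sq hV ha) n
  comm := by
    intro x hx y hy
    obtain ⟨n, rfl⟩ := mem_zpowers_iff.1 hx
    obtain ⟨m, rfl⟩ := mem_zpowers_iff.1 hy
    have e : a ^ n * a ^ m * (a ^ n)⁻¹ * (a ^ m)⁻¹ = 1 := by
      rw [← zpow_add, add_comm, zpow_add]; group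
    rw [e]
    exact one_mem _
  ne := by
    intro h1
    obtain ⟨v, hv, hn⟩ := h.mv
    apply hn
    rw [← mem_centralizer_iff.1 (h1 (mem_zpowers a)) v hv, mul_inv_cancel_right]
  le := by
    rw [relIndex_le_iff]
    have h1 : (centralizer ((zpowers a : Subgroup G) : Set G)).relIndex V = 2 := by
      rw [Subgroup.relIndex_eq_two_iff]
      obtain ⟨w, hw, hn⟩ := h.mv
      have hw1 := (h.cm w hw).resolve_left hn
      have hmem : ∀ v ∈ V, v ∈ centralizer ((zpowers a : Subgroup G) : Set G) ↔ a * v * a⁻¹ = v := by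
        intro v _
        constructor
        · intro h2
          rw [mem_centralizer_iff.1 h2 a (mem_zpowers a), mul_inv_cancel_right]
        · intro h2
          rw [mem_centralizer_iff]
          intro x hx
          obtain ⟨n, rfl⟩ := mem_zpowers_iff.1 hx
          have h3 : Commute a v := mul_inv_eq_iff_eq_mul.1 h2
          exact (h3.zpow_left n).eq
      refine ⟨w, hw, fun v hv => ?_⟩
      rw [hmem _ (mul_mem hv hw), hmem v hv]
      have e : a * (v * w) * a⁻¹ = (a * v * a⁻¹) * (a * w * a⁻¹) := by group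
      rw [e, hw1]
      have hr2 : r * r = 1 := by
        have := hV.2 r (h.mem ha)
        rwa [pow_two] at this
      have hcomm : ∀ x ∈ V, ∀ y ∈ V, x * y = y * x := fun x hx y hy =>
        congrArg Subtype.val (hV.1.is_comm.comm ⟨x, hx⟩ ⟨y, hy⟩)
      rcases h.cm v hv with h2 | h2
      · right
        refine ⟨h2, fun h3 => h.ne ?_⟩
        rw [h2] at h3
        have h4 : v * (r * w) = r * (v * w) := by
          rw [← mul_assoc, hcomm v hv r (h.mem ha), mul_assoc]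
        rw [h4] at h3
        exact mul_eq_right.1 h3
      · left
        refine ⟨?_, fun h3 => h.ne ?_⟩
        · rw [h2]
          calc r * v * (r * w) = r * (v * r) * w := by group
            _ = r * (r * v) * w := by rw [hcomm v hv r (h.mem ha)]
            _ = r * r * (v * w) := by group
            _ = v * w := by rw [hr2, one_mul]
        · rw [h2] at h3
          exact mul_eq_right.1 h3
    rw [h1]
    have h2 : (centralizer (V : Set G)).relIndex (zpowers a) ≠ 0 := Subgroup.index_ne_zero_of_finite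
    have h3 : (centralizer (V : Set G)).relIndex (zpowers a) ≠ 1 := by
      rw [Ne, relIndex_eq_one]
      intro h1
      obtain ⟨v, hv, hn⟩ := h.mv
      apply hn
      rw [← mem_centralizer_iff.1 (h1 (mem_zpowers a)) v hv, mul_inv_cancel_right]
    omega

end Tvc

/-! ### Natural modules -/

section nat

variable [Finite G] {F : Type} [Field F] [CharP F 2] {S R V D : Subgroup G} {k : ℕ} {M : NatKM F S R V D k}

/-- a transvection in `S` acts as the transvection of one block, and `|F| = 2` -/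
theorem nat_form (h : Nb M) {a r : G} (ha : a ∈ S) (t : Tvc V a r) :
    ∃ i, ActsSL M.e V D a (sg i (up 1)) ∧ (∀ c : F, c ≠ 0 → c = 1) ∧ M.e r i = ![1, 0] ∧
      ∀ l, l ≠ i → M.e r l = 0 := by
  have haR : a ∈ R := h.SP' ha
  have haV : a ∈ normalizer (V : Set G) := h.VP' haR
  have hr : r ∈ V := t.mem haV
  obtain ⟨I, h1, h2⟩ := M.offM (zpowers a) (zpowers_le.2 ha) (t.off h.V2 haV)
  obtain ⟨b, hb, hab⟩ := h1 a (mem_zpowers a)
  obtain ⟨i, hi⟩ : ∃ i, b i ≠ 0 := by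
    by_contra hcon
    push Not at hcon
    obtain ⟨v, hv, hn⟩ := t.mv
    apply hn
    rw [mul_inv_eq_iff_eq_mul]
    refine h.comm_of_one haR ?_ hv
    have e : (fun i => up (b i)) = (1 : Fin k → Matrix.SpecialLinearGroup (Fin 2) F) := by
      funext l
      rw [hcon l, up_zero]
      rfl
    rwa [e] at hab
  have key : ∀ j, b j ≠ 0 → M.e r j = ![b j, 0] ∧ ∀ l, l ≠ j → M.e r l = 0 := by
    intro j hj
    obtain ⟨v, hv, hvj, hvl⟩ := Nb.exists_single M j ![0, 1]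
    have h3 : M.e (a * v * a⁻¹) j = ![b j, 1] := by
      rw [hab.1 v hv j, hvj]
      exact vec_eq (by rw [ap_up_0]; simp) (by rw [ap_up_1]; simp)
    have h4 : a * v * a⁻¹ ≠ v := by
      intro h5
      rw [h5, hvj] at h3
      exact hj (congrFun h3 0).symm
    have h5 := (t.cm v hv).resolve_left h4
    have h6 : ∀ l, M.e r l = M.e (a * v * a⁻¹) l + M.e v l := by
      intro l
      rw [h5, M.mul r hr v hv, Pi.add_apply]
      have : M.e v l + M.e v l = 0 := by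
        funext x
        exact CharTwo.add_self_eq_zero _
      rw [add_assoc, this, add_zero]
    refine ⟨?_, fun l hl => ?_⟩
    · rw [h6, h3, hvj]
      refine vec_eq ?_ ?_
      · simp
      · simp only [Pi.add_apply, Matrix.cons_val_one, Matrix.cons_val_zero]
        exact CharTwo.add_self_eq_zero _
    · rw [h6, hab.1 v hv l, hvl l hl, ap_zr, add_zero]
  have huniq : ∀ l, l ≠ i → b l = 0 := by
    intro l hl
    by_contra hc
    have h3 := (key i hi).2 l hl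
    rw [(key l hc).1] at h3
    exact hc (congrFun h3 0)
  have hiI : i ∈ I := by
    by_contra hc
    exact hi (hb i hc)
  obtain ⟨v, hv, hvi, hvl⟩ := Nb.exists_single M i ![0, 1]
  have hall : ∀ c : F, c = 0 ∨ c = b i := by
    intro c
    obtain ⟨x, hx, hxa⟩ := h2 (Pi.single i c) fun l hl => by
      rw [Pi.single_eq_of_ne]
      rintro rfl
      exact hl hiI
    have h3 := h.up_entry hxa hv hvi
    rw [Pi.single_eq_same] at h3
    rcases t.zp h.V2 haV hx with h4 | h4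
    · left
      rw [h4 v hv, hvi] at h3
      exact h3.symm
    · right
      rw [h4 v hv, h.up_entry hab hv hvi] at h3
      exact h3.symm
  have hb1 : b i = 1 := ((hall 1).resolve_left one_ne_zero).symm
  refine ⟨i, ?_, fun c hc => by rw [(hall c).resolve_left hc, hb1], ?_, (key i hi).2⟩
  · have e : (fun l => up (b l)) = sg i (up (1 : F)) := by
      funext l
      by_cases hl : l = i
      · subst hl
        rw [sg_self, hb1]
      · rw [sg_ne hl, huniq l hl, up_zero]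
    rwa [e] at hab
  · rw [(key i hi).1, hb1]

omit [Finite G] [CharP F 2] in
theorem vec_ne : (![1, 0] : Fin 2 → F) ≠ 0 := fun h => one_ne_zero (congrFun h 0)

/-- the centres of the transvections in `S` are conjugate -/
theorem nat_conj (h : Nb M) {a r b s : G} (ha : a ∈ S) (hb : b ∈ S) (t : Tvc V a r) (t' : Tvc V b s) :
    ∃ x ∈ S, s = x * r * x⁻¹ := by
  obtain ⟨i, hi, -, hri, -⟩ := nat_form h ha t
  obtain ⟨j, hj, -, -, -⟩ := nat_form h hb t'
  obtain ⟨x, hx, hxe⟩ := M.trans i j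
  have hxV : x ∈ normalizer (V : Set G) := h.VP' (h.SP' hx)
  have hxa : x * a * x⁻¹ ∈ S := mul_mem (mul_mem hx ha) (inv_mem hx)
  obtain ⟨l, hl, -, -, hrl⟩ := nat_form h hxa (t.conj hxV)
  have hlj : j = l := by
    by_contra hne
    have h1 := (hxe r (t.mem (h.VP' (h.SP' ha)))).1 (hrl j hne)
    rw [hri] at h1
    exact vec_ne h1
  subst hlj
  exact ⟨x, hx, t'.eq (t.conj hxV) fun v hv => h.same (h.SP' hb) (h.SP' hxa) hj hl hv⟩

/-- an element which moves the centre of `a` and fixes all its other conjugates under `S` -/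
theorem nat_move (h : Nb M) {a r : G} (ha : a ∈ S) (t : Tvc V a r) :
    ∃ g ∈ R, g * r * g⁻¹ ≠ r ∧ ∀ s ∈ S, s * r * s⁻¹ ≠ r → g * (s * r * s⁻¹) * g⁻¹ = s * r * s⁻¹ := by
  obtain ⟨i, hi, -, hri, -⟩ := nat_form h ha t
  obtain ⟨g, hg, hgA⟩ := M.lift (sg i (lo 1))
  have hrV := t.mem (h.VP' (h.SP' ha))
  refine ⟨g, hg, fun h1 => ?_, fun s hs hne => ?_⟩
  · have h2 := hgA.1 r hrV i
    rw [h1, hri, sg_self] at h2
    have h3 := congrFun h2 1
    rw [ap_lo_1] at h3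
    simp at h3
  · have hsV : s ∈ normalizer (V : Set G) := h.VP' (h.SP' hs)
    have hsa : s * a * s⁻¹ ∈ S := mul_mem (mul_mem hs ha) (inv_mem hs)
    have hsaR := h.SP' hsa
    have ts := t.conj hsV
    obtain ⟨j, hj, -, -, -⟩ := nat_form h hsa ts
    have hji : j ≠ i := by
      rintro rfl
      exact hne (ts.eq t fun v hv => h.same hsaR (h.SP' ha) hj hi hv)
    have hgV : g ∈ normalizer (V : Set G) := h.VP' hg
    have hcomm : sg i (lo (1 : F)) * sg j (up (1 : F)) = sg j (up (1 : F)) * sg i (lo (1 : F)) :=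
      sg_comm (sg_ne hji _) _
    have h1 := h.acts_mul (mul_mem hsaR (inv_mem hg)) hgA (h.acts_mul (inv_mem hg) hj (h.acts_inv hg hgA))
    have e : sg i (lo (1 : F)) * (sg j (up (1 : F)) * (sg i (lo (1 : F)))⁻¹) = sg j (up (1 : F)) := by
      rw [← mul_assoc, hcomm, mul_inv_cancel_right]
    have e2 : g * (s * a * s⁻¹ * g⁻¹) = g * (s * a * s⁻¹) * g⁻¹ := by group
    rw [e, e2] at h1
    exact (ts.conj hgV).eq ts fun v hv =>
      h.same (mul_mem (mul_mem hg hsaR) (inv_mem hg)) hsaR h1 hj hv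

end nat

end Cfsg.Agent.Omega.NO3S.SOne.PU

end

section


/-!
# GammaFF, (S1), `q₀ = 2`: transvections in `S` on an even-subset module with a radical (helper480)

`M : SymKM S R V D k m`, `D` arbitrary.

* `exists_cycle` : `S` contains an element which is a cycle on the letters `≠ 0` of the `j`-th block;
* `sym_form`, `sym_conj`, `sym_move`.
-/

set_option autoImplicit false

namespace Cfsg.Agent.Omega.NO3S.SOne.PU

open Subgroup Cfsg Cfsg.Agent.ZN.ChoiceBase Cfsg.Agent.ZN.ChoiceSit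
open Cfsg.Agent.Omega.FFThm
open Cfsg.Agent.Omega.NO3S.ThmB
open Cfsg.Agent.Omega.Half.SymA (cy cy_zero cy_succ cy_pow exists_cy_pow)

universe u

variable {G : Type u} [Group G]

section perm

variable {k n : ℕ}

theorem sg_pow {α : Type*} [Group α] (i : Fin k) (A : α) (n : ℕ) : sg i A ^ n = sg i (A ^ n) := by
  induction n with
  | zero => rw [pow_zero, pow_zero, sg_one]
  | succ n ih => rw [pow_succ, pow_succ, ih, sg_mul]

/-- the conjugate of a one-block permutation -/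
theorem sg_conj (σ : Equiv.Perm (Fin k)) (τ : Fin k → Equiv.Perm (Fin n)) (i : Fin k) (c : Equiv.Perm (Fin n)) :
    (fun j => τ (σ⁻¹ j) * sg i c (σ⁻¹ j) * (τ (σ⁻¹ j))⁻¹) = sg (σ i) (τ i * c * (τ i)⁻¹) := by
  funext j
  by_cases hj : j = σ i
  · subst hj
    rw [sg_self, show σ⁻¹ (σ i) = i from σ.symm_apply_apply i, sg_self]
  · have h1 : σ⁻¹ j ≠ i := by
      intro h2
      apply hj
      rw [← h2]
      exact (σ.apply_symm_apply j).symm
    rw [sg_ne hj, sg_ne h1, mul_one, mul_inv_cancel]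

theorem pr_conj (τ : Equiv.Perm (Fin n)) (j : Fin k) (x y : Fin n) :
    sg j (τ * Equiv.swap x y * τ⁻¹) = pr j (τ x) (τ y) := by
  rw [pr, Equiv.swap_apply_apply]

end perm

section sym

variable {S R V D : Subgroup G} {k m : ℕ} {M : SymKM S R V D k m}

theorem act_conj (h : Sb M) {g x : G} (hg : g ∈ R) {σ : Equiv.Perm (Fin k)}
    {τ τ₁ : Fin k → Equiv.Perm (Fin (2 ^ m + 1))} (hx : x ∈ R) (hgA : ActsSym M.e V g σ τ) (hxA : Ac M x τ₁) :
    Ac M (g * x * g⁻¹) fun j => τ (σ⁻¹ j) * τ₁ (σ⁻¹ j) * (τ (σ⁻¹ j))⁻¹ := by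
  refine ⟨fun v hv j z => ?_, fun d hd => ?_⟩
  · set i := σ⁻¹ j with hi
    have hj : j = σ i := (σ.apply_symm_apply j).symm
    set y := (τ i)⁻¹ z with hy
    have hz : z = τ i y := ((τ i).apply_symm_apply z).symm
    have hw := h.memV (inv_mem hg) hv
    set w := g⁻¹ * v * g⁻¹⁻¹ with hwd
    have e1 : g * w * g⁻¹ = v := by rw [hwd]; group
    have e2 : g * x * g⁻¹ * v * (g * x * g⁻¹)⁻¹ = g * (x * w * x⁻¹) * g⁻¹ := by rw [hwd]; group
    have h1 := hgA _ (h.memV hx hw) i (τ₁ i y)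
    have h2 := hxA.1 w hw i y
    have h3 := hgA w hw i y
    rw [e1, ← hj, ← hz] at h3
    rw [← hj] at h1
    rw [e2, Equiv.Perm.one_apply, h3]
    change M.e (g * (x * w * x⁻¹) * g⁻¹) j (τ i (τ₁ i y)) = _
    rw [h1]
    exact h2
  · have h3 : g⁻¹ * d * g⁻¹⁻¹ ∈ D := (mem_normalizer_iff.1 (h.DP' (inv_mem hg)) _).1 hd
    have h4 := hxA.2 _ h3
    calc g * x * g⁻¹ * d = g * (x * (g⁻¹ * d * g⁻¹⁻¹)) * g⁻¹ := by group
      _ = g * ((g⁻¹ * d * g⁻¹⁻¹) * x) * g⁻¹ := by rw [h4]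
      _ = d * (g * x * g⁻¹) := by group

theorem act_conj_sg (h : Sb M) {g x : G} (hg : g ∈ R) {σ : Equiv.Perm (Fin k)}
    {τ : Fin k → Equiv.Perm (Fin (2 ^ m + 1))} (hx : x ∈ R) (hgA : ActsSym M.e V g σ τ) {i : Fin k}
    {c : Equiv.Perm (Fin (2 ^ m + 1))} (hxA : Ac M x (sg i c)) :
    Ac M (g * x * g⁻¹) (sg (σ i) (τ i * c * (τ i)⁻¹)) := by
  have h1 := act_conj h hg hx hgA hxA
  rwa [sg_conj] at h1

theorem ac_pow (h : Sb M) {g : G} (hg : g ∈ R) {τ : Fin k → Equiv.Perm (Fin (2 ^ m + 1))} (hgA : Ac M g τ) (n : ℕ) :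
    Ac M (g ^ n) (τ ^ n) := by
  induction n with
  | zero => rw [pow_zero, pow_zero]; exact Sb.ac_one
  | succ n ih => rw [pow_succ, pow_succ]; exact h.ac_mul hg ih hgA

end sym

section cycle

variable [Finite G] {S : Sylow 2 G} {R V D : Subgroup G} {k m : ℕ} {M : SymKM (S : Subgroup G) R V D k m}

theorem cy_fix {m : ℕ} (hm : 1 ≤ m) {x : Fin (2 ^ m + 1)} (h : cy m x = x) : x = 0 := by
  by_contra hne
  obtain ⟨a, rfl⟩ := Fin.exists_succ_eq.2 hne
  rw [cy_succ, Fin.succ_inj] at h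
  have e3 : (1 : Fin (2 ^ m)) = 0 := add_eq_left.1 h
  have h7 : 1 < 2 ^ m := Nat.one_lt_two_pow (by omega)
  have e4 := congrArg Fin.val e3
  rw [Fin.val_one', Fin.val_zero, Nat.mod_eq_of_lt h7] at e4
  exact one_ne_zero e4

/-- `c` is transitive on the letters `≠ 0` -/
def Tr0 {n : ℕ} [NeZero n] (c : Equiv.Perm (Fin n)) : Prop := ∀ x y : Fin n, x ≠ 0 → y ≠ 0 → ∃ j : ℕ, (c ^ j) x = y

theorem Tr0.conj {n : ℕ} [NeZero n] {c τ : Equiv.Perm (Fin n)} (h : Tr0 c) (hτ : τ 0 = 0) : Tr0 (τ * c * τ⁻¹) := by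
  intro x y hx hy
  have hτ' : τ⁻¹ 0 = 0 := by
    have h1 := τ.symm_apply_apply 0
    rwa [hτ] at h1
  have h0 : ∀ z, z ≠ 0 → τ⁻¹ z ≠ 0 := by
    intro z hz h1
    apply hz
    rw [← hτ'] at h1
    exact τ⁻¹.injective h1
  obtain ⟨j, hj⟩ := h _ _ (h0 x hx) (h0 y hy)
  refine ⟨j, ?_⟩
  rw [conj_pow, Equiv.Perm.mul_apply, Equiv.Perm.mul_apply, hj]
  exact τ.apply_symm_apply y

/-- `S` contains an element which is a cycle on the letters `≠ 0` of the `j`-th block and trivial elsewhere -/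
theorem exists_cycle (h : Sb M) (j : Fin k) : ∃ s ∈ (S : Subgroup G), ∃ c, Ac M s (sg j c) ∧ Tr0 c := by
  have hm : 1 ≤ m := le_trans (by norm_num) h.m2
  obtain ⟨h₀, hh, hact, hD⟩ := M.lift (sg j (cy m))
  have hA : Ac M h₀ (sg j (cy m)) := ⟨hact, hD⟩
  obtain ⟨a, N, hN, hord⟩ := Nat.exists_eq_two_pow_mul_odd (orderOf_pos h₀).ne'
  obtain ⟨u, hu⟩ : ∃ u, N * u ≡ 1 [MOD 2 ^ m] := by
    obtain ⟨u, -, hu⟩ := Nat.exists_mul_mod_eq_of_coprime (n := N) (k := 2 ^ m) 1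
      (Nat.Coprime.pow_right m (Nat.coprime_two_right.2 hN)) (by positivity)
    exact ⟨u, hu⟩
  have hcN : cy m ^ (N * u) = cy m := by
    have := pow_eq_pow_of_modEq hu (cy_pow m)
    rwa [pow_one] at this
  have h2 := ac_pow h hh hA (N * u)
  rw [sg_pow, hcN] at h2
  have hp2 : IsPGroup 2 (zpowers (h₀ ^ (N * u))) := by
    have e : (h₀ ^ (N * u)) ^ 2 ^ a = 1 := by
      rw [← pow_mul]
      apply orderOf_dvd_iff_pow_eq_one.1
      rw [hord]
      exact ⟨u, by ring⟩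
    rintro ⟨x, n, rfl⟩
    refine ⟨a, Subtype.ext ?_⟩
    change ((h₀ ^ (N * u)) ^ n) ^ 2 ^ a = 1
    rw [← zpow_natCast, ← zpow_mul, mul_comm n, zpow_mul, zpow_natCast, e, one_zpow]
  have hle : zpowers (h₀ ^ (N * u)) ≤ R := zpowers_le.2 (pow_mem hh _)
  obtain ⟨g, hg, hgS⟩ := Half.SymA.exists_conj_le S h.SP' hp2 hle
  have h3 := hgS _ (mem_zpowers _)
  obtain ⟨σ, τ, hσ⟩ := M.perm g hg
  have h4 := act_conj_sg h hg (pow_mem hh _) hσ h2
  set s := g * h₀ ^ (N * u) * g⁻¹ with hs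
  set c₁ := τ j * cy m * (τ j)⁻¹ with hc₁
  have h5 : c₁ 0 = 0 := by
    have := M.fix0 s h3 1 _ h4.1 (σ j)
    rwa [sg_self] at this
  have h6 : (τ j)⁻¹ 0 = 0 := by
    apply cy_fix hm
    rw [Equiv.Perm.eq_inv_iff_eq]
    exact h5
  have h6' : τ j 0 = 0 := by
    have h7 := (τ j).apply_symm_apply 0
    rwa [show (τ j).symm 0 = 0 from h6] at h7
  have htr : Tr0 c₁ := by
    refine Tr0.conj (fun x y hx hy => ?_) h6'
    exact exists_cy_pow m hx hy
  obtain ⟨t, ht, σ', τ', ht', hij⟩ := M.trans (σ j) j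
  have h7 := act_conj_sg h (h.SP' ht) (h.SP' h3) ht' h4
  rw [hij] at h7
  exact ⟨t * s * t⁻¹, mul_mem (mul_mem ht h3) (inv_mem ht), _, h7, htr.conj (M.fix0 t ht σ' τ' ht' _)⟩

end cycle

/-! ### Transvections -/

section tv

variable [Finite G]

section form

variable {S R V D : Subgroup G} {k m : ℕ} {M : SymKM S R V D k m}

/-- a transvection in `S` acts as one transposition -/
theorem sym_form (h : Sb M) {a r : G} (ha : a ∈ S) (t : Tvc V a r) :
    ∃ i x y, x ≠ y ∧ x ≠ 0 ∧ y ≠ 0 ∧ Ac M a (pr i x y) ∧ M.e r = dl i x + dl i y := by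
  have haR : a ∈ R := h.SP' ha
  have haV : a ∈ normalizer (V : Set G) := h.VP' haR
  have hr : r ∈ V := t.mem haV
  obtain ⟨hd, hI⟩ := M.offM (zpowers a) (zpowers_le.2 ha) (t.off h.V2 haV)
  obtain ⟨τ, hτ, hs⟩ := hI a (mem_zpowers a)
  have hda := hd a (mem_zpowers a)
  obtain ⟨i, x, hx⟩ : ∃ i x, τ i x ≠ x := by
    by_contra hcon
    push Not at hcon
    obtain ⟨v, hv, hn⟩ := t.mv
    apply hn
    have e : τ = 1 := by
      funext l
      ext1 y
      exact hcon l y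
    rw [e] at hτ
    rw [mul_inv_eq_iff_eq_mul]
    exact h.comm_of_one haR ⟨hτ, hda⟩ hv
  obtain ⟨-, b, hb, hbb⟩ := hs i x hx
  set y := τ i x with hy
  have hxy : x ≠ y := fun h0 => hx h0.symm
  have hab : ActsSym M.e V a 1 (pr i x y) := by
    rcases t.zp h.V2 haV hb with h4 | h4
    · exfalso
      have h5 : ActsSym M.e V 1 1 (pr i x y) := by
        intro v hv l z
        have h6 := hbb v hv l z
        rw [h4 v hv] at h6
        rw [one_mul, inv_one, mul_one]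
        exact h6
      have h6 := congrFun (h.faith h5) i
      rw [pr, sg_self] at h6
      have h7 := Equiv.congr_fun h6 x
      rw [Equiv.swap_apply_left] at h7
      exact hxy h7.symm
    · intro v hv l z
      rw [← h4 v hv]
      exact hbb v hv l z
  have h0 : Equiv.swap x y 0 = 0 := by
    have := M.fix0 a ha 1 _ hab i
    rwa [pr, sg_self] at this
  have hx0 : x ≠ 0 := by
    intro hc
    rw [← hc, Equiv.swap_apply_left] at h0
    exact hxy h0.symm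
  have hy0 : y ≠ 0 := by
    intro hc
    rw [← hc, Equiv.swap_apply_right] at h0
    exact hxy h0
  refine ⟨i, x, y, hxy, hx0, hy0, ⟨hab, hda⟩, ?_⟩
  obtain ⟨v, hv, hve⟩ := Sb.exists_pair M i x 0
  have h1 : M.e (a * v * a⁻¹) = dl i y + dl i 0 := by
    rw [Sb.e_pair hab hv hve, pr, sg_self, Equiv.swap_apply_left,
      Equiv.swap_apply_of_ne_of_ne (Ne.symm hx0) (Ne.symm hy0)]
  have h2 : a * v * a⁻¹ ≠ v := by
    intro h3
    rw [h3, hve] at h1
    have h4 := congrFun (congrFun h1 i) x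
    rw [Pi.add_apply, Pi.add_apply, Pi.add_apply, Pi.add_apply, dl_self, dl_ne i hx0, dl_ne i hxy, add_zero,
      add_zero] at h4
    exact one_ne_zero h4
  have h3 := (t.cm v hv).resolve_left h2
  rw [h3, M.mul r hr v hv, hve] at h1
  have h4 : M.e r = (M.e r + (dl i x + dl i 0)) + (dl i x + dl i 0) := by
    rw [add_assoc, add_self2, add_zero]
  rw [h4, h1]
  have : dl i y + dl i 0 + (dl i x + dl i 0) = (dl i x + dl i y) + (dl i 0 + dl i 0) := by abel
  rw [this, add_self2, add_zero]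

/-- an element which moves the centre of `a` and fixes all its other conjugates under `S` -/
theorem sym_move (h : Sb M) {a r : G} (ha : a ∈ S) (t : Tvc V a r) :
    ∃ g ∈ R, g * r * g⁻¹ ≠ r ∧ ∀ s ∈ S, s * r * s⁻¹ ≠ r → g * (s * r * s⁻¹) * g⁻¹ = s * r * s⁻¹ := by
  obtain ⟨i, x, y, hxy, hx0, hy0, hA, hre⟩ := sym_form h ha t
  obtain ⟨g, hg, hgA⟩ := M.lift (pr i x 0)
  have hrV := t.mem (h.VP' (h.SP' ha))
  refine ⟨g, hg, fun h1 => ?_, fun s hs hne => ?_⟩
  · have h2 := Sb.e_pair hgA.1 hrV hre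
    rw [h1, hre, pr, sg_self, Equiv.swap_apply_left,
      Equiv.swap_apply_of_ne_of_ne (Ne.symm hxy) hy0] at h2
    have h4 := congrFun (congrFun h2 i) x
    rw [Pi.add_apply, Pi.add_apply, Pi.add_apply, Pi.add_apply, dl_self, dl_ne i hx0, dl_ne i hxy, add_zero,
      add_zero] at h4
    exact one_ne_zero h4
  · have hsV : s ∈ normalizer (V : Set G) := h.VP' (h.SP' hs)
    have hsa : s * a * s⁻¹ ∈ S := mul_mem (mul_mem hs ha) (inv_mem hs)
    have hsaR := h.SP' hsa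
    have ts := t.conj hsV
    obtain ⟨j, x', y', hxy', hx0', hy0', hA', -⟩ := sym_form h hsa ts
    have hsame : ¬ pr j x' y' = pr i x y := by
      intro he
      rw [he] at hA'
      exact hne (ts.eq t fun v hv => h.same hsaR (h.SP' ha) hA' hA hv)
    have hfx : ∀ z, z ≠ 0 → (j = i → z ≠ x) → (pr i x 0) j z = z := by
      intro z hz hzx
      by_cases hj : j = i
      · subst hj
        rw [pr, sg_self, Equiv.swap_apply_of_ne_of_ne (hzx rfl) hz]
      · rw [pr, sg_ne hj]; rfl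
    have h1 : (pr i x 0) j x' = x' := by
      refine hfx x' hx0' ?_
      rintro rfl rfl
      apply hsame
      rw [h.disj ha hsa (Ne.symm hxy) (Ne.symm hxy') hA.1 hA'.1]
    have h2 : (pr i x 0) j y' = y' := by
      refine hfx y' hy0' ?_
      rintro rfl rfl
      apply hsame
      have e : pr j x' y' = pr j y' x' := by unfold pr; rw [Equiv.swap_comm]
      rw [e] at hA' ⊢
      rw [h.disj ha hsa (Ne.symm hxy) hxy' hA.1 hA'.1]
    have hcomm := Sb.pr_comm h1 h2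
    have h3 := h.ac_mul (mul_mem hsaR (inv_mem hg)) hgA (h.ac_mul (inv_mem hg) hA' (h.ac_inv hg hgA))
    have e : pr i x 0 * (pr j x' y' * (pr i x 0)⁻¹) = pr j x' y' := by
      rw [← mul_assoc, hcomm, mul_inv_cancel_right]
    have e2 : g * (s * a * s⁻¹ * g⁻¹) = g * (s * a * s⁻¹) * g⁻¹ := by group
    rw [e, e2] at h3
    exact (ts.conj (h.VP' hg)).eq ts fun v hv =>
      h.same (mul_mem (mul_mem hg hsaR) (inv_mem hg)) hsaR h3 hA' hv

end form

section conj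

variable {S : Sylow 2 G} {R V D : Subgroup G} {k m : ℕ} {M : SymKM (S : Subgroup G) R V D k m}

/-- the centres of the transvections in `S` are conjugate -/
theorem sym_conj (h : Sb M) {a r b s : G} (ha : a ∈ (S : Subgroup G)) (hb : b ∈ (S : Subgroup G))
    (t : Tvc V a r) (t' : Tvc V b s) : ∃ x ∈ (S : Subgroup G), s = x * r * x⁻¹ := by
  obtain ⟨i, x, y, hxy, hx0, hy0, hA, -⟩ := sym_form h ha t
  obtain ⟨j, x', y', hxy', hx0', hy0', hB, -⟩ := sym_form h hb t'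
  obtain ⟨p, hp, σ, τ, hpA, hij⟩ := M.trans i j
  have h1 := act_conj_sg h (h.SP' hp) (h.SP' ha) hpA hA
  rw [hij, pr_conj] at h1
  have h0 : τ i 0 = 0 := M.fix0 p hp σ τ hpA i
  obtain ⟨q, hq, c, hqA, hc⟩ := exists_cycle h j
  obtain ⟨n, hn⟩ := hc (τ i x) x' (fun h2 => hx0 ((τ i).injective (h2.trans h0.symm))) hx0'
  have hqn : q ^ n ∈ (S : Subgroup G) := pow_mem hq n
  have hqA' := ac_pow h (h.SP' hq) hqA n
  have hpa : p * a * p⁻¹ ∈ (S : Subgroup G) := mul_mem (mul_mem hp ha) (inv_mem hp)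
  have h2 := act_conj_sg h (h.SP' hqn) (h.SP' hpa) hqA'.1 h1
  rw [sg_pow, Equiv.Perm.one_apply, sg_self, pr_conj, hn] at h2
  set u := q ^ n * p with hu
  have huS : u ∈ (S : Subgroup G) := mul_mem hqn hp
  have e : q ^ n * (p * a * p⁻¹) * (q ^ n)⁻¹ = u * a * u⁻¹ := by rw [hu]; group
  rw [e] at h2
  have hua : u * a * u⁻¹ ∈ (S : Subgroup G) := mul_mem (mul_mem huS ha) (inv_mem huS)
  have tu := t.conj (h.VP' (h.SP' huS))
  have hne : (c ^ n) (τ i y) ≠ x' := by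
    rw [← hn]
    intro h3
    exact hxy ((τ i).injective ((c ^ n).injective h3)).symm
  have h3 := h.disj hua hb hne (Ne.symm hxy') h2.1 hB.1
  rw [h3] at h2
  exact ⟨u, huS, t'.eq tu fun v hv => h.same (h.SP' hb) (h.SP' hua) hB h2 hv⟩

end conj

end tv

end Cfsg.Agent.Omega.NO3S.SOne.PU

end

end

-- merged: Cfsg.Agent.Mrg.Omega.NO3S.SOne.PU.TwoOf
section

/-!
# GammaFF, (S1), (T5) of #22459: `Two S P₁` from the FF theorem (helper480)

* `two_of_nat` : natural modules over the field of order 2, radical `cv S P₁` arbitrary;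
* `two_of_sym` : even-subset modules, radical `cv S P₁` arbitrary.
-/

set_option autoImplicit false
set_option linter.unusedSectionVars false

namespace Cfsg.Agent.Omega.NO3S.SOne.PU

open Subgroup Cfsg Cfsg.Agent.ZN Cfsg.Agent.Omega.MinPar
open Cfsg.Agent.Omega.FFThm
open Cfsg.Agent.Omega.NO3S.ThmB
open Cfsg.Agent.Omega.FrameFF (cv)
open Cfsg.Agent.Omega.HOne (cv_le le_normalizer_cv conj_mem_zl conj_mem_cv)
open Cfsg.Agent.ZN.ChoiceSit (Syl)
open Cfsg.Agent.Lib.SL2Mat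
open Cfsg.Agent.Omega.NatPair (ap)
open Cfsg.Agent.Omega.NOThreeL.NF.NatR (Const)
open scoped Pointwise

universe u

variable {G : Type u} [Group G]

/-- `a ∈ A` is a transvection on `V` with centre `r`, all elements of `A` act trivially or as transvections with
centre `r` -/
structure TvA (V A : Subgroup G) (a r : G) : Prop where
  mem : a ∈ A
  tv : Tvc V a r
  all : ∀ x ∈ A, ∀ v ∈ V, x * v * x⁻¹ = v ∨ x * v * x⁻¹ = r * v

theorem TvA.comm_eq {V A : Subgroup G} {a r : G} (h : TvA V A a r) : ⁅V, A⁆ = zpowers r := by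
  refine le_antisymm (commutator_le.2 fun v hv x hx => ?_) (zpowers_le.2 ?_)
  · rw [commutatorElement_def]
    have e : v * x * v⁻¹ * x⁻¹ = v * (x * v * x⁻¹)⁻¹ := by group
    rw [e]
    rcases h.all x hx v hv with h1 | h1
    · rw [h1, mul_inv_cancel]
      exact one_mem _
    · rw [h1, mul_inv_rev, mul_inv_cancel_left]
      exact inv_mem (mem_zpowers r)
  · obtain ⟨v, hv, h1⟩ := h.tv.ex
    have h2 := commutator_mem_commutator hv h.mem
    rw [commutatorElement_def] at h2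
    have e : v * a * v⁻¹ * a⁻¹ = r⁻¹ := by
      calc v * a * v⁻¹ * a⁻¹ = v * (a * v * a⁻¹)⁻¹ := by group
        _ = r⁻¹ := by rw [h1, mul_inv_rev, mul_inv_cancel_left]
    rw [e] at h2
    exact (inv_mem_iff).1 h2

/-- all commutators with `ν` are `1` or `r`, constant commutators -/
theorem TvA.of_const {V A : Subgroup G} {a ν : G} (hν : ν ∈ V) (ha : a ∈ A) (hc : Const V A)
    (hmv : a * ν * a⁻¹ ≠ ν) (key : ∀ x ∈ A, x * ν * x⁻¹ = ν ∨ x * ν * x⁻¹ = a * ν * a⁻¹) :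
    TvA V A a (a * ν * a⁻¹ * ν⁻¹) := by
  have hνc : ν ∉ centralizer (A : Set G) := by
    intro h1
    apply hmv
    rw [mem_centralizer_iff.1 h1 a ha, mul_inv_cancel_right]
  have hall : ∀ x ∈ A, ∀ v ∈ V, x * v * x⁻¹ = v ∨ x * v * x⁻¹ = a * ν * a⁻¹ * ν⁻¹ * v := by
    intro x hx v hv
    by_cases hvc : v ∈ centralizer (A : Set G)
    · left
      rw [mem_centralizer_iff.1 hvc x hx, mul_inv_cancel_right]
    · obtain ⟨b, hb, h1⟩ := hc v hv hvc ν hν hνc x hx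
      rcases key b hb with h2 | h2
      · left
        rw [h2, mul_inv_cancel] at h1
        exact mul_inv_eq_one.1 h1
      · right
        rw [h2] at h1
        rw [← h1]
        group
  exact ⟨ha, ⟨fun v hv => hall a ha v hv, ν, hν, hmv⟩, hall⟩

/-- **`Two` from the facts on transvections.** -/
theorem two_of {S P₁ : Subgroup G} (h1 : ∀ A, KA S P₁ A → ∃ a r, TvA (zl S P₁) A a r)
    (h2 : ∀ a ∈ S, ∀ b ∈ S, ∀ r s, Tvc (zl S P₁) a r → Tvc (zl S P₁) b s → ∃ x ∈ S, s = x * r * x⁻¹)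
    (h3 : ∀ a ∈ S, ∀ r, Tvc (zl S P₁) a r → ∃ g ∈ P₁, g * r * g⁻¹ ≠ r ∧
      ∀ s ∈ S, s * r * s⁻¹ ≠ r → g * (s * r * s⁻¹) * g⁻¹ = s * r * s⁻¹) : Two S P₁ where
  cls := by
    intro A A' hA hA'
    obtain ⟨a, r, ha⟩ := h1 A hA
    obtain ⟨b, s, hb⟩ := h1 A' hA'
    obtain ⟨x, hx, h4⟩ := h2 a (hA.le ha.mem) b (hA'.le hb.mem) r s ha.tv hb.tv
    refine ⟨x, hx, ?_⟩
    rw [ha.comm_eq, hb.comm_eq, h4]
    change _ = (zpowers r).map (MulAut.conj x).toMonoidHom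
    rw [MonoidHom.map_zpowers]
    rfl
  pt := by
    intro A hA
    obtain ⟨a, r, ha⟩ := h1 A hA
    exact ⟨r, ha.tv.ne, ha.comm_eq, h3 a (hA.le ha.mem) r ha.tv⟩

section

variable [Finite G] {S : Sylow 2 G} {P₁ : Subgroup G}

theorem syl (hP₁ : IsParS (S : Subgroup G) P₁) : Syl (S : Subgroup G) P₁ := MinSimple.EmptyTI.syl_of_le hP₁.le

theorem char2 (hG : IsCharacteristicTwoType G) (hP₁ : IsParS (S : Subgroup G) P₁) :
    P₁ ⊓ centralizer (o2 P₁ : Set G) ≤ o2 P₁ := hP₁.isLoc.char2 S hG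

theorem nb (hG : IsCharacteristicTwoType G) (hP₁ : IsParS (S : Subgroup G) P₁) {F : Type} [Field F] {k : ℕ}
    (M : NatKM F (S : Subgroup G) P₁ (zl (S : Subgroup G) P₁) (cv (S : Subgroup G) P₁) k) : Nb M := by
  have hT := syl hP₁
  have hc := char2 hG hP₁
  refine ⟨hT.1, OM.BlkGen.zl_elem hT hc, ZN.le_normalizer_zl _ _, cv_le _ _, le_normalizer_cv _ _, ?_⟩
  intro g hg h1 h2 v hv
  refine NSix.HTwo.Vec.triv hT hc (cv_le _ _) (le_normalizer_cv _ _) hg (fun w hw => ?_) h2 hv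
  have hgw := conj_mem_zl hg hw
  refine (M.ker _ (mul_mem hgw (inv_mem hw))).1 ?_
  rw [M.mul _ hgw _ (inv_mem hw), h1 w hw, ← M.mul w hw _ (inv_mem hw), mul_inv_cancel]
  exact Nb.e_one

theorem sb (hG : IsCharacteristicTwoType G) (hP₁ : IsParS (S : Subgroup G) P₁) {k m : ℕ} (hm : 2 ≤ m)
    (M : SymKM (S : Subgroup G) P₁ (zl (S : Subgroup G) P₁) (cv (S : Subgroup G) P₁) k m) : Sb M := by
  have hT := syl hP₁
  have hc := char2 hG hP₁
  refine ⟨hm, S.isPGroup', hT.1, OM.BlkGen.zl_elem hT hc, ZN.le_normalizer_zl _ _, cv_le _ _, le_normalizer_cv _ _, ?_⟩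
  intro g hg h1 h2 v hv
  refine NSix.HTwo.Vec.triv hT hc (cv_le _ _) (le_normalizer_cv _ _) hg (fun w hw => ?_) h2 hv
  have hgw := conj_mem_zl hg hw
  refine (M.ker _ (mul_mem hgw (inv_mem hw))).1 ?_
  rw [M.mul _ hgw _ (inv_mem hw), h1 w hw, ← M.mul w hw _ (inv_mem hw), mul_inv_cancel]
  exact Sb.e_one

/-! ### Natural modules over the field of order 2 -/

theorem tva_nat {F : Type} [Field F] [CharP F 2] (hF : ∀ c : F, c = 0 ∨ c = 1) {T R V D : Subgroup G} {k : ℕ}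
    {M : NatKM F T R V D k} (h : Nb M) {A : Subgroup G} (hAT : A ≤ T) (hoff : OffM V A) (hc : Const V A) :
    ∃ a r, TvA V A a r := by
  obtain ⟨I, h1, h2⟩ := M.offM A hAT hoff
  have hne : I.Nonempty := by
    rw [Set.nonempty_iff_ne_empty]
    rintro rfl
    refine hoff.ne fun a ha => ?_
    obtain ⟨b, hb, hac⟩ := h1 a ha
    rw [mem_centralizer_iff]
    intro v hv
    refine (h.comm_of_one (h.SP' (hAT ha)) ?_ hv).symm
    have e : (fun i => up (b i)) = (1 : Fin k → Matrix.SpecialLinearGroup (Fin 2) F) := by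
      funext l
      rw [hb l (Set.notMem_empty l), up_zero]
      rfl
    rwa [e] at hac
  obtain ⟨i, hi⟩ := hne
  obtain ⟨a, ha, haA⟩ := h2 (Pi.single i 1) fun l hl => by
    rw [Pi.single_eq_of_ne]
    rintro rfl
    exact hl hi
  have haR := h.SP' (hAT ha)
  obtain ⟨ν, hν, hνi, hνl⟩ := Nb.exists_single M i ![0, 1]
  refine ⟨a, _, TvA.of_const hν ha hc (fun h3 => ?_) fun x hx => ?_⟩
  · have h4 := h.up_entry haA hν hνi
    rw [h3, hνi, Pi.single_eq_same] at h4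
    exact zero_ne_one h4
  · obtain ⟨b, -, hxA⟩ := h1 x hx
    have hxR := h.SP' (hAT hx)
    rcases hF (b i) with h3 | h3
    · left
      rw [mul_inv_eq_iff_eq_mul]
      exact h.dir hxR hxA (j := i) (by rw [h3, up_zero]) hν hνl
    · right
      have h4 := h.acts_mul hxR (h.acts_inv haR haA) hxA
      have h5 := h.dir (mul_mem (inv_mem haR) hxR) h4 (j := i)
        (by rw [Pi.mul_apply, Pi.inv_apply, h3, Pi.single_eq_same, inv_mul_cancel]) hν hνl
      calc x * ν * x⁻¹ = a * (a⁻¹ * x * ν) * x⁻¹ := by group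
        _ = a * (ν * (a⁻¹ * x)) * x⁻¹ := by rw [h5]
        _ = a * ν * a⁻¹ := by group

/-- **`Two`, natural modules.** -/
theorem two_of_nat (hG : IsCharacteristicTwoType G) (hP₁ : IsParS (S : Subgroup G) P₁) {F : Type} [Field F]
    [CharP F 2] (hF : ∀ c : F, c = 0 ∨ c = 1) {k : ℕ}
    (M : NatKM F (S : Subgroup G) P₁ (zl (S : Subgroup G) P₁) (cv (S : Subgroup G) P₁) k) :
    Two (S : Subgroup G) P₁ := by
  have h := nb hG hP₁ M
  exact two_of (fun A hA => tva_nat hF h hA.le hA.off hA.const)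
    (fun a ha b hb r s t t' => nat_conj h ha hb t t') fun a ha r t => nat_move h ha t

/-! ### Even-subset modules -/

theorem tva_sym {T R V D : Subgroup G} {k m : ℕ} {M : SymKM T R V D k m} (h : Sb M) {A : Subgroup G} (hAT : A ≤ T)
    (hoff : OffM V A) (hc : Const V A) : ∃ a r, TvA V A a r := by
  obtain ⟨hd, hI⟩ := M.offM A hAT hoff
  obtain ⟨a₀, ha₀, hc₀⟩ := SetLike.not_le_iff_exists.mp hoff.ne
  obtain ⟨τ₀, hτ₀, hs₀⟩ := hI a₀ ha₀
  have ha₀R : a₀ ∈ R := h.SP' (hAT ha₀)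
  obtain ⟨i, x, hx⟩ : ∃ i x, τ₀ i x ≠ x := by
    by_contra hcon
    push Not at hcon
    apply hc₀
    rw [mem_centralizer_iff]
    intro v hv
    have e : τ₀ = 1 := by
      funext l
      ext1 y
      exact hcon l y
    rw [e] at hτ₀
    exact (h.comm_of_one ha₀R ⟨hτ₀, hd a₀ ha₀⟩ hv).symm
  obtain ⟨hinv, b₀, hb₀, hbact⟩ := hs₀ i x hx
  set y := τ₀ i x with hy
  have hx0 : x ≠ 0 := by
    rintro rfl
    exact hx (M.fix0 a₀ (hAT ha₀) 1 τ₀ hτ₀ i)
  have hy0 : y ≠ 0 := by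
    intro h0
    rw [h0, M.fix0 a₀ (hAT ha₀) 1 τ₀ hτ₀ i] at hinv
    exact hx0 hinv.symm
  have hxy : x ≠ y := fun h0 => hx h0.symm
  have hb₀R : b₀ ∈ R := h.SP' (hAT hb₀)
  have hbAc : Ac M b₀ (pr i x y) := ⟨hbact, hd b₀ hb₀⟩
  obtain ⟨ν, hν, hνe, hfix⟩ := h.nx hxy hx0 hy0 (i := i)
  have hbν : M.e (b₀ * ν * b₀⁻¹) = dl i y + dl i 0 := by
    rw [Sb.e_pair hbact hν hνe]
    have e : (pr i x y) i = Equiv.swap x y := sg_self _ _
    change dl i ((pr i x y) i x) + dl i ((pr i x y) i 0) = _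
    rw [e, Equiv.swap_apply_left, Equiv.swap_apply_of_ne_of_ne (Ne.symm hx0) (Ne.symm hy0)]
  refine ⟨b₀, _, TvA.of_const hν hb₀ hc (fun e => ?_) fun a ha => ?_⟩
  · rw [e, hνe] at hbν
    have h1 := congrFun (congrFun hbν i) x
    rw [Pi.add_apply, Pi.add_apply, Pi.add_apply, Pi.add_apply, dl_self, dl_ne i hx0, dl_ne i hxy] at h1
    rw [add_zero, add_zero] at h1
    exact one_ne_zero h1
  · obtain ⟨τ, hτ, hs⟩ := hI a ha
    have haT := hAT ha
    have h0 : τ i 0 = 0 := M.fix0 a haT 1 τ hτ i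
    by_cases hxa : τ i x = x
    · left
      have hya : τ i y = y := by
        by_contra hc
        obtain ⟨hinv', b, hb, hbb⟩ := hs i y hc
        have h2 := h.disj (hAT hb₀) (hAT hb) (i := i) (x := y) (y := x) (z := τ i y) hxy hc
          (by
            have e : pr i y x = pr i x y := by unfold pr; rw [Equiv.swap_comm]
            rw [e]; exact hbact) hbb
        rw [← h2, hxa] at hinv'
        exact hxy hinv'
      rw [mul_inv_eq_iff_eq_mul]
      exact hfix a (h.SP' haT) τ ⟨hτ, hd a ha⟩ hxa hya h0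
    · right
      obtain ⟨hinv', b, hb, hbb⟩ := hs i x hxa
      have h2 := h.disj (hAT hb₀) (hAT hb) (i := i) (x := x) (y := y) (z := τ i x) (Ne.symm hxy) hxa
        hbact hbb
      have haR : a ∈ R := h.SP' haT
      have h3 := h.ac_mul haR (h.ac_inv hb₀R hbAc) (⟨hτ, hd a ha⟩ : Ac M a τ)
      have e : (pr i x y) i = Equiv.swap x y := sg_self _ _
      have e1 : ((pr i x y)⁻¹ * τ) i = Equiv.swap x y * τ i := by
        rw [Pi.mul_apply, Pi.inv_apply, e, Equiv.swap_inv]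
      rw [← h2] at hinv'
      have h4 := hfix _ (mul_mem (inv_mem hb₀R) haR) _ h3
        (by rw [e1, Equiv.Perm.mul_apply, ← h2, Equiv.swap_apply_right])
        (by rw [e1, Equiv.Perm.mul_apply, hinv', Equiv.swap_apply_left])
        (by rw [e1, Equiv.Perm.mul_apply, h0, Equiv.swap_apply_of_ne_of_ne (Ne.symm hx0) (Ne.symm hy0)])
      calc a * ν * a⁻¹ = b₀ * (b₀⁻¹ * a * ν) * a⁻¹ := by group
        _ = b₀ * (ν * (b₀⁻¹ * a)) * a⁻¹ := by rw [h4]
        _ = b₀ * ν * b₀⁻¹ := by group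

/-- **`Two`, even-subset modules.** -/
theorem two_of_sym (hG : IsCharacteristicTwoType G) (hP₁ : IsParS (S : Subgroup G) P₁) {k m : ℕ} (hm : 2 ≤ m)
    (M : SymKM (S : Subgroup G) P₁ (zl (S : Subgroup G) P₁) (cv (S : Subgroup G) P₁) k m) :
    Two (S : Subgroup G) P₁ := by
  have h := sb hG hP₁ hm M
  exact two_of (fun A hA => tva_sym h hA.le hA.off hA.const)
    (fun a ha b hb r s t t' => sym_conj h ha hb t t') fun a ha r t => sym_move h ha t

end

end Cfsg.Agent.Omega.NO3S.SOne.PU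

end

-- merged: Cfsg.Agent.Mrg.Omega.NO3S.SOne.PU.Use
section

section


/-!
# GammaFF, (S1), `q₀ = 2`: the end (helper480, #21693; (T5) of #22459)

* `SO.false_of_two` : `SO`, `Key V F B`, `Two S P₁`, `C_Z(P) = 1` and the passivity of `P` for all conjugates of `W` under
  `⟨P, P₁⟩` are contradictory (the field `pas` of `SO` is not used).
-/

set_option autoImplicit false

namespace Cfsg.Agent.Omega.NO3S.SOne

open Subgroup Cfsg Cfsg.Agent.ZN Cfsg.Agent.Omega.MinPar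
open Cfsg.Agent.Omega.NOne.Flat (EE NN conj_eq_of_norm)
open Cfsg.Agent.Omega.NO3S.Pas (Key)
open Cfsg.Agent.Omega.NoFF.Basic (conj_conj mem_conj conj_le_iff conj_le_centralizer)
open scoped Pointwise

universe u

variable {G : Type u} [Group G] [Finite G] {S : Sylow 2 G} {V F B P P₁ : Subgroup G}

omit [Finite G] in
theorem PU.conj_zpowers (g r : G) : MulAut.conj g • zpowers r = zpowers (g * r * g⁻¹) := by
  change (zpowers r).map (MulAut.conj g).toMonoidHom = _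
  rw [MonoidHom.map_zpowers]
  rfl

omit [Finite G] in
theorem PU.conj_commutator (g : G) (A C : Subgroup G) :
    MulAut.conj g • ⁅A, C⁆ = ⁅MulAut.conj g • A, MulAut.conj g • C⁆ := Subgroup.map_commutator _ _ _

namespace SO

variable (so : SO S V F B P P₁)
include so

/-- `⁅L₁, W^y⁆ = ⁅L₁, W⁆^y` for `W^y ≤ S` which moves `L₁` -/
theorem comm_conj_two (hk : Key V F B) {y : G} (hy : y ∈ P ⊔ P₁)
    (hS : MulAut.conj y • NOne.Flat.WW V F ≤ (S : Subgroup G))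
    (hmov : ¬ MulAut.conj y • NOne.Flat.WW V F ≤ centralizer (zl (S : Subgroup G) P₁ : Set G)) :
    ⁅zl (S : Subgroup G) P₁, MulAut.conj y • NOne.Flat.WW V F⁆ =
      MulAut.conj y • ⁅zl (S : Subgroup G) P₁, NOne.Flat.WW V F⁆ := by
  have hy' := inv_mem hy
  have hI := so.line_le_I hy' (by rw [le_conj_iff, inv_inv]; exact hS)
  have hmv : ¬ NOne.Flat.WW V F ≤
      centralizer ((MulAut.conj y⁻¹ • zl (S : Subgroup G) P₁ : Subgroup G) : Set G) := by
    intro h1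
    apply hmov
    have h2 := conj_le_centralizer (g := y) h1
    rwa [conj_smul_inv] at h2
  rw [so.comm_eq hk so.L_le_I hI so.mov hmv, PU.conj_commutator, conj_smul_inv]

/-- **(S1), `q₀ = 2`.** -/
theorem false_of_two (hk : Key V F B) (two : Two (S : Subgroup G) P₁)
    (hCP : zc (S : Subgroup G) ⊓ centralizer (P : Set G) = ⊥)
    (hpas : ∀ y ∈ P ⊔ P₁, MulAut.conj y • NOne.Flat.WW V F ≤ (S : Subgroup G) →
      MulAut.conj y • NOne.Flat.WW V F ≤ o2 P) : False := by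
  have hVc : ∀ x ∈ V, ∀ y ∈ V, x * y = y * x := fun x hx y hy => mem_centralizer_iff.1 (so.comm hy) x hx
  have hka1 := so.ka_one hk
  obtain ⟨r, hr1, hr, g₀, hg₀, hmv, hfx⟩ := two.pt _ hka1
  have hWN : NOne.Flat.WW V F ≤ normalizer (zl (S : Subgroup G) P₁ : Set G) :=
    so.WS.trans (so.SP₁.trans so.PL)
  have hrV : r ∈ V := by
    have h1 : r ∈ ⁅zl (S : Subgroup G) P₁, NOne.Flat.WW V F⁆ := by rw [hr]; exact mem_zpowers r
    exact so.L_le_V (le_normalizer_iff_commutator_le_left.1 hWN h1)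
  have hr2 : r ^ 2 = 1 := so.sq r hrV
  have hQS : o2 P₁ ≤ (S : Subgroup G) := by
    rw [← so.o2_eq]
    exact inf_le_left
  have hQPS : o2 P ≤ (S : Subgroup G) := by
    rw [← so.hP.inf_centralizer S so.hc]
    exact inf_le_left
  refine Par.par (S := (S : Subgroup G)) (P := P) (P₁ := P₁) (Q₁ := o2 P₁) (V := V) hVc so.PV so.P₁V so.SP
    (fun g hg => ?_) hQS (fun v hv hvP => ?_) {w | ∃ y ∈ P ⊔ P₁, w = Par.cp y (NOne.Flat.WW V F, r)} ?_ ?_ ?_
    (W₁ := NOne.Flat.WW V F) (r₁ := r) ⟨1, one_mem _, (Par.cp_one _).symm⟩ so.WS so.act ?_ hg₀ hmv hfx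
  · exact (conj_eq_of_norm (MinSimple.VModule.le_normalizer_o2 P₁ hg)).le
  · have hvS : v ∈ (S : Subgroup G) := by
      have h1 : zpowers v ≤ normalizer ((S : Subgroup G) : Set G) := by
        rw [zpowers_le]
        refine centralizer_le_normalizer _ ?_
        rw [mem_centralizer_iff]
        intro s hs
        exact mul_inv_eq_iff_eq_mul.1 (hvP s (so.SP hs))
      have h2 : IsPGroup 2 (zpowers v) := by
        rintro ⟨x, n, rfl⟩
        refine ⟨1, Subtype.ext ?_⟩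
        change (v ^ n) ^ 2 ^ 1 = 1
        rw [pow_one, ← zpow_natCast, ← zpow_mul, mul_comm, zpow_mul, zpow_natCast, so.sq v hv, one_zpow]
      have h3 := S.2.to_sup_of_normal_left' h2 h1
      have h6 : (S : Subgroup G) ⊔ zpowers v = (S : Subgroup G) := S.3 h3 le_sup_left
      have h5 : zpowers v ≤ (S : Subgroup G) := by
        rw [← h6]
        exact le_sup_right
      exact h5 (mem_zpowers v)
    have h1 : v ∈ zc (S : Subgroup G) ⊓ centralizer (P : Set G) := by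
      refine mem_inf.2 ⟨MinSimple.VModule.mem_zc.2 ⟨hvS, fun b hb => ?_, so.sq v hv⟩, ?_⟩
      · exact mul_inv_eq_iff_eq_mul.1 (hvP b (so.SP hb))
      · rw [mem_centralizer_iff]
        intro p hp
        exact mul_inv_eq_iff_eq_mul.1 (hvP p hp)
    rwa [hCP, mem_bot] at h1
  · rintro _ ⟨y, hy, rfl⟩
    exact (mem_normalizer_iff.1 (so.YV hy) r).1 hrV
  · rintro _ ⟨y, hy, rfl⟩ g hg
    exact ⟨g * y, mul_mem hg hy, (Par.cp_mul _ _ _).symm⟩
  · rintro _ ⟨y, hy, rfl⟩ hS p hp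
    have h1 := hpas y hy hS
    have h2 : MulAut.conj p • (MulAut.conj y • NOne.Flat.WW V F) ≤ MulAut.conj p • o2 P := conj_le_iff.2 h1
    refine h2.trans ?_
    rw [conj_eq_of_norm (MinSimple.VModule.le_normalizer_o2 P hp)]
    exact hQPS
  · rintro _ ⟨y, hy, rfl⟩ hS hQ
    have hka' := so.ka hk hy hS hQ
    obtain ⟨s, hs, he⟩ := two.cls _ _ hka1 hka'
    refine ⟨s, hs, ?_⟩
    change y * r * y⁻¹ = s * r * s⁻¹
    rw [so.comm_conj_two hk hy hS hka'.off.ne, hr, PU.conj_zpowers, PU.conj_zpowers] at he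
    have h1 : y * r * y⁻¹ ∈ zpowers (s * r * s⁻¹) := by
      rw [← he]
      exact mem_zpowers _
    obtain ⟨n, hn⟩ := mem_zpowers_iff.1 h1
    have h2 : (s * r * s⁻¹) ^ 2 = 1 := by rw [conj_pow, hr2]; group
    have h3 : ∀ j : ℤ, (s * r * s⁻¹) ^ (2 * j) = 1 := by
      intro j
      rw [zpow_mul, zpow_ofNat, h2, one_zpow]
    rcases Int.even_or_odd' n with ⟨j, rfl | rfl⟩
    · exfalso
      rw [h3] at hn
      apply hr1
      have e : y * r * y⁻¹ = 1 := hn.symm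
      have e2 : r = y⁻¹ * (y * r * y⁻¹) * y := by group
      rw [e2, e]; group
    · rw [zpow_add, h3, one_mul, zpow_one] at hn
      exact hn.symm

end SO

end Cfsg.Agent.Omega.NO3S.SOne

end

section


/-!
# GammaFF, (S1) (#21629): `SO`, KEY ⟹ `False`

* `SO.false_of_nat` : `P₁` natural (radical allowed) over a field with at least four elements;
* `SO.concl` : `P₁` has one of the types of the FF theorem;
* **`SO.false_of_four`** : `|[L₁, W]| ≥ 4`;
* **`SO.false_of_pas`** : `P` is passive for all conjugates of `F` under `Y`, `C_Z(P) = 1`.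
-/

set_option autoImplicit false
set_option linter.unusedSectionVars false

namespace Cfsg.Agent.Omega.NO3S.SOne

open Subgroup Cfsg Cfsg.Agent.ZN Cfsg.Agent.Omega.MinPar
open Cfsg.Agent.Omega.FFThm (NatKM SymKM NoOverM ConclM)
open Cfsg.Agent.Omega.FrameFF (cv)
open Cfsg.Agent.Omega.NO3S.Pas (Key)
open scoped Pointwise

universe u

variable {G : Type u} [Group G] [Finite G] {S : Sylow 2 G} {V F B P P₁ : Subgroup G}

/-- a field of characteristic 2 has two or at least four elements -/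
theorem field_or (K : Type) [Field K] [Finite K] [CharP K 2] : (∀ c : K, c = 0 ∨ c = 1) ∨ 4 ≤ Nat.card K := by
  classical
  have : Fintype K := Fintype.ofFinite K
  by_cases h : 4 ≤ Nat.card K
  · exact Or.inr h
  left
  have h3 : Nat.card K = 2 := by
    obtain ⟨e, -, he⟩ := FiniteField.card K 2
    rw [Nat.card_eq_fintype_card, he] at h ⊢
    have he0 : 0 < (e : ℕ) := e.pos
    have he1 : (e : ℕ) < 2 := by
      by_contra hge
      have : 2 ^ 2 ≤ 2 ^ (e : ℕ) := Nat.pow_le_pow_right (by norm_num) (by omega)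
      omega
    have he2 : (e : ℕ) = 1 := by omega
    rw [he2, pow_one]
  rw [Nat.card_eq_two_iff' (0 : K)] at h3
  obtain ⟨y, -, hy⟩ := h3
  intro c
  by_cases hc : c = 0
  · exact Or.inl hc
  · exact Or.inr ((hy c hc).trans (hy 1 one_ne_zero).symm)

namespace SO

variable (so : SO S V F B P P₁)
include so

/-- `P₁` natural over a field with at least four elements -/
theorem false_of_nat (hk : Key V F B) {K : Type} [Field K] [Finite K] [CharP K 2] {k : ℕ}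
    (M : NatKM K (S : Subgroup G) P₁ (zl (S : Subgroup G) P₁) (cv (S : Subgroup G) P₁) k) (h4 : 4 ≤ Nat.card K)
    (no : NoOverM (zl (S : Subgroup G) P₁) P₁)
    (htr : ∀ x ∈ zc (S : Subgroup G), x ≠ 1 → ∀ y ∈ zc (S : Subgroup G), y ≠ 1 →
      ∃ h ∈ P, h ∈ normalizer ((S : Subgroup G) : Set G) ∧ h * x * h⁻¹ = y)
    (hC : zc (S : Subgroup G) ⊓ centralizer (P₁ : Set G) ≠ ⊥) : False :=
  so.false_of_NT hk (NTNat.nt_of so.hc so.hP₁ M h4 no
    (fun _ h1 h2 => NatD.exists_gen M (NatD.AmbD.of so.hc so.hP₁ M) so.hP₁ h1 h2)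
    (fun _ h1 h2 => NatD.RR_inf M (NatD.AmbD.of so.hc so.hP₁ M) h1 h2)) htr hC

/-- the type of `P₁` -/
theorem concl (hk : Key V F B) : NoOverM (zl (S : Subgroup G) P₁) P₁ ∧ ConclM (S : Subgroup G) P₁ :=
  FF.Glob.ffthmM G (S : Subgroup G) P₁ (MinSimple.EmptyTI.syl_of_le so.hP₁.le) so.hP₁.toIsMinPar
    (so.hP₁.isLoc.char2 S so.hc) ⟨NOne.Flat.WW V F, so.WS.trans so.hP₁.le, (so.ka_one hk).off⟩

/-- the interface for `q₀ = 2`, or a field with at least four elements -/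
theorem two_or (hk : Key V F B)
    (htr : ∀ x ∈ zc (S : Subgroup G), x ≠ 1 → ∀ y ∈ zc (S : Subgroup G), y ≠ 1 →
      ∃ h ∈ P, h ∈ normalizer ((S : Subgroup G) : Set G) ∧ h * x * h⁻¹ = y)
    (hC : zc (S : Subgroup G) ⊓ centralizer (P₁ : Set G) ≠ ⊥) : Two (S : Subgroup G) P₁ := by
  obtain ⟨no, hc⟩ := so.concl hk
  rcases hc with ⟨K, _, _, _, k, -, ⟨M⟩⟩ | ⟨k, m, -, hm, ⟨M⟩⟩
  · rcases field_or K with hK | hK
    · exact PU.two_of_nat so.hc so.hP₁ hK M
    · exact absurd (so.false_of_nat hk M hK no htr hC) id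
  · exact PU.two_of_sym so.hc so.hP₁ hm M

/-- **(S1), KEY, `|[L₁, W]| ≥ 4`.** -/
theorem false_of_four (hk : Key V F B)
    (htr : ∀ x ∈ zc (S : Subgroup G), x ≠ 1 → ∀ y ∈ zc (S : Subgroup G), y ≠ 1 →
      ∃ h ∈ P, h ∈ normalizer ((S : Subgroup G) : Set G) ∧ h * x * h⁻¹ = y)
    (hC : zc (S : Subgroup G) ⊓ centralizer (P₁ : Set G) ≠ ⊥)
    (h4 : 4 ≤ Nat.card ↥(⁅zl (S : Subgroup G) P₁, NOne.Flat.WW V F⁆ : Subgroup G)) : False := by
  obtain ⟨r, hr1, hr, -⟩ := (so.two_or hk htr hC).pt _ (so.ka_one hk)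
  have hWN : NOne.Flat.WW V F ≤ normalizer (zl (S : Subgroup G) P₁ : Set G) :=
    so.WS.trans (so.SP₁.trans so.PL)
  have hrL : r ∈ zl (S : Subgroup G) P₁ := by
    have h1 : r ∈ ⁅zl (S : Subgroup G) P₁, NOne.Flat.WW V F⁆ := by rw [hr]; exact mem_zpowers r
    exact le_normalizer_iff_commutator_le_left.1 hWN h1
  have h2 : r ^ 2 = 1 := MinSimple.VModule.zl_sq so.hP₁.le S.isPGroup' (MinSimple.Basic.not_dvd_relIndex S so.hP₁.le)
    (so.hP₁.isLoc.char2 S so.hc) r hrL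
  rw [hr, Nat.card_zpowers] at h4
  have h3 := orderOf_le_of_pow_eq_one (by norm_num) h2
  omega

/-- **(S1), KEY, `P` passive for all conjugates of `F`.** -/
theorem false_of_pas (hk : Key V F B)
    (htr : ∀ x ∈ zc (S : Subgroup G), x ≠ 1 → ∀ y ∈ zc (S : Subgroup G), y ≠ 1 →
      ∃ h ∈ P, h ∈ normalizer ((S : Subgroup G) : Set G) ∧ h * x * h⁻¹ = y)
    (hC : zc (S : Subgroup G) ⊓ centralizer (P₁ : Set G) ≠ ⊥)
    (hCP : zc (S : Subgroup G) ⊓ centralizer (P : Set G) = ⊥)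
    (hpas : ∀ y ∈ P ⊔ P₁, MulAut.conj y • NOne.Flat.WW V F ≤ (S : Subgroup G) →
      MulAut.conj y • NOne.Flat.WW V F ≤ o2 P) : False :=
  so.false_of_two hk (so.two_or hk htr hC) hCP hpas

end SO

end Cfsg.Agent.Omega.NO3S.SOne

end

end

-- merged: Cfsg.Agent.Mrg.Omega.NO3S.SOne.PlugRad
section

section


/-!
# GammaFF, (S1): the plug

* `nt` : `NT S P₁ q` from the natural module, radical allowed, `q ≥ 4`;
* `so_false` : `SO`, KEY, the transitivity of `N_P(S)` on `Z#`, `C_Z(P₁) ≠ 1`, `C_Z(P) = 1`, passivity of `P` ⟹ `False`;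
* `rad_false` : **(S1)**;
* `s1_const` : the local form, `q ≥ 4`, constant commutators.
-/

set_option autoImplicit false
set_option linter.unusedSectionVars false

namespace Cfsg.Agent.Omega.NO3S.SOne.PlugRad

open Subgroup Cfsg Cfsg.Agent.ZN Cfsg.Agent.Omega.MinPar
open Cfsg.Agent.Omega.NOne.Flat (EE NN)
open Cfsg.Agent.Omega.FFThm (ElemM OffM NoOverM StmtM ConclM NatKM SymKM)
open Cfsg.Agent.Omega.FrameFF (cv)
open Cfsg.Agent.Omega.NO3S.Pas (Key)
open Cfsg.Agent.Omega.NO3S.Level (W0 WSt X0 M0 K0)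
open Cfsg.Agent.Omega.NO3S.GFF.S1 (Rad RadW)
open scoped Pointwise

universe u

variable {G : Type u} [Group G] [Finite G] {S : Sylow 2 G} {P P₁ V F B : Subgroup G}

theorem nt (hG : IsCharacteristicTwoType G) (hP : IsParS (S : Subgroup G) P₁) {K : Type} [Field K] [Finite K] [CharP K 2]
    {k : ℕ} (M : NatKM K (S : Subgroup G) P₁ (zl (S : Subgroup G) P₁) (cv (S : Subgroup G) P₁) k) (h4 : 4 ≤ Nat.card K)
    (no : NoOverM (zl (S : Subgroup G) P₁) P₁) : NT (S : Subgroup G) P₁ (Nat.card K) :=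
  NTNat.nt_of hG hP M h4 no
    (fun _ hm hc => NatD.exists_gen M (NatD.AmbD.of hG hP M) hP hm hc)
    (fun _ hm hc => NatD.RR_inf M (NatD.AmbD.of hG hP M) hm hc)

theorem eq_zero_or_one {K : Type} [Field K] [Finite K] (h : Nat.card K = 2) (c : K) : c = 0 ∨ c = 1 := by
  classical
  have : Fintype K := Fintype.ofFinite K
  by_contra hcon
  push Not at hcon
  have h1 : ({0, 1, c} : Finset K).card ≤ Fintype.card K := Finset.card_le_univ _
  rw [← Nat.card_eq_fintype_card, h, Finset.card_insert_of_notMem, Finset.card_insert_of_notMem,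
    Finset.card_singleton] at h1
  · omega
  · rw [Finset.mem_singleton]
    exact fun h2 => hcon.2 h2.symm
  · rw [Finset.mem_insert, Finset.mem_singleton]
    rintro (h2 | h2)
    · exact zero_ne_one h2
    · exact hcon.1 h2.symm

/-- `SO` + KEY ⟹ `False` -/
theorem so_false (so : SO S V F B P P₁) (hk : Key V F B)
    (htr : ∀ x ∈ zc (S : Subgroup G), x ≠ 1 → ∀ y ∈ zc (S : Subgroup G), y ≠ 1 →
      ∃ h ∈ P, h ∈ normalizer ((S : Subgroup G) : Set G) ∧ h * x * h⁻¹ = y)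
    (hC : zc (S : Subgroup G) ⊓ centralizer (P₁ : Set G) ≠ ⊥)
    (hCP : zc (S : Subgroup G) ⊓ centralizer (P : Set G) = ⊥)
    (hpas : ∀ y ∈ P ⊔ P₁, MulAut.conj y • NOne.Flat.WW V F ≤ (S : Subgroup G) →
      MulAut.conj y • NOne.Flat.WW V F ≤ o2 P) : False := by
  have hff := FF.Glob.ffthmM G (S : Subgroup G) P₁ (MinSimple.EmptyTI.syl_of_le so.hP₁.le) so.hP₁.toIsMinPar
    (so.hP₁.isLoc.char2 S so.hc) ⟨_, so.WS.trans so.SP₁, (so.ka_one hk).off⟩
  rcases hff.2 with ⟨K, fK, fiK, cK, k, hk0, ⟨M⟩⟩ | ⟨k, m, hk0, hm, ⟨M⟩⟩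
  · by_cases h4 : 4 ≤ Nat.card K
    · exact so.false_of_NT hk (nt so.hc so.hP₁ M h4 hff.1) htr hC
    · have h3 : Nat.card K ≠ 3 := KeyRad.card_field_ne_three K
      have h2 : 1 < Nat.card K := Finite.one_lt_card
      have h5 : Nat.card K = 2 := by omega
      exact so.false_of_two hk (PU.two_of_nat so.hc so.hP₁ (eq_zero_or_one h5) M) hCP hpas
  · exact so.false_of_two hk (PU.two_of_sym so.hc so.hP₁ hm M) hCP hpas

/-- **(S1)** -/
theorem rad_false (h : Rad S) (w : WSt S P₁ F) : False := by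
  obtain ⟨P, hP, hPn⟩ := h.toHypC.ex
  have hPS : PSS (S : Subgroup G) P := ⟨hP, hPn⟩
  obtain ⟨n, f, so, g, Q, hg, hQ, hbad⟩ := exists_so (sg_of_rad h w hPS)
  have hk := KeyLe.key_fnt h w hPS f hg hQ hbad
  have rw' := h.radW w hPS
  refine so_false so hk ?_ (h.rad P₁ F w) rw'.hypN.toHyp.inf_eq_bot (pas_of_rad h w hPS)
  intro x hx hx1 y hy hy1
  exact rw'.tr x hx y hy hx1 hy1

/-- `Two` ⟹ `|⁅L₁, W⁆| = 2` -/
theorem card_of_two (so : SO S V F B P P₁) (hk : Key V F B) (two : Two (S : Subgroup G) P₁) :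
    Nat.card ↥⁅zl (S : Subgroup G) P₁, NOne.Flat.WW V F⁆ ≤ 2 := by
  obtain ⟨r, -, hr, -⟩ := two.pt _ (so.ka_one hk)
  have h1 : r ∈ V := by
    have h2 : r ∈ ⁅zl (S : Subgroup G) P₁, NOne.Flat.WW V F⁆ := by
      rw [hr]
      exact mem_zpowers r
    exact so.L_le_V (so.comm_le_L so.WS h2)
  rw [hr, Nat.card_zpowers]
  exact orderOf_le_of_pow_eq_one Nat.two_pos (so.toHyp.sq r h1)

/-- **(S1), the local form**, `q ≥ 4`, constant commutators (mixed case). -/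
theorem s1_const (w : RadW S P P₁ F) (hc : NOThreeL.NF.NatR.Const (zl (S : Subgroup G) P₁)
      (NOne.Flat.WW (X0 (S : Subgroup G)) F))
    (h4 : 4 ≤ Nat.card ↥⁅zl (S : Subgroup G) P₁, NOne.Flat.WW (X0 (S : Subgroup G)) F⁆) : False := by
  have sg : Sg S P P₁ F := { toWSt := w.toWSt, hz := w.hz, hP := w.pss, hp := w.hp }
  obtain ⟨n, f, so, g, Q, hg, hQ, hbad⟩ := exists_so sg
  have hk := f.key_of_const FF.Glob.ffthmM (fun Q hQ => w.low Q hQ) w.hypN.toHyp.cv w.mv hg hQ hbad hc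
  have hff := FF.Glob.ffthmM G (S : Subgroup G) P₁ (MinSimple.EmptyTI.syl_of_le so.hP₁.le) so.hP₁.toIsMinPar
    (so.hP₁.isLoc.char2 S so.hc) ⟨_, so.WS.trans so.SP₁, (so.ka_one hk).off⟩
  have hno : ¬ Two (S : Subgroup G) P₁ := fun two => by
    have h5 := card_of_two so hk two
    omega
  rcases hff.2 with ⟨K, fK, fiK, cK, k, hk0, ⟨M⟩⟩ | ⟨k, m, hk0, hm, ⟨M⟩⟩
  · by_cases h4 : 4 ≤ Nat.card K
    · refine so.false_of_NT hk (nt so.hc so.hP₁ M h4 hff.1) ?_ w.hz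
      intro x hx hx1 y hy hy1
      exact w.tr x hx y hy hx1 hy1
    · have h3 : Nat.card K ≠ 3 := KeyRad.card_field_ne_three K
      have h2 : 1 < Nat.card K := Finite.one_lt_card
      have h5 : Nat.card K = 2 := by omega
      exact hno (PU.two_of_nat so.hc so.hP₁ (eq_zero_or_one h5) M)
  · exact hno (PU.two_of_sym so.hc so.hP₁ hm M)

end Cfsg.Agent.Omega.NO3S.SOne.PlugRad

end

section


/-!
# GammaFF, the field `rad`: (S1) is impossible
-/

set_option autoImplicit false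
set_option linter.unusedSectionVars false

namespace Cfsg.Agent.Omega.NO3S.SOne.GamRadPlug

open Subgroup Cfsg Cfsg.Agent.ZN Cfsg.Agent.Omega.MinPar
open Cfsg.Agent.Omega.NO3S.Level (W0 WSt X0)
open Cfsg.Agent.Omega.NO3S.GFF.S1 (Rad)

universe u

/-- **The field `rad` of the assembly.** -/
theorem gamRad (K : Frame.Cls.{u}) : GamRad K := fun _ _ _ _ S P F w h =>
  (PlugRad.rad_false (S := S) (P₁ := P) (F := F) { toW0 := w.toW0, rad := h } w).elim

end Cfsg.Agent.Omega.NO3S.SOne.GamRadPlug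

end

end
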